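/-
Root elements of the unipotent radical attached to the short simple root of ³D₄, their commutators
and the action of the torus.
-/
import Mathlib
import Cfsg.Agent.Lib.Chev.Twist.D4Main

set_option autoImplicit false
set_option maxRecDepth 20000
set_option maxHeartbeats 1000000

namespace CfsgLib.Chev.TwD4.Mult

open Cfsg.Lie

universe v

/-- The roots of the radical modulo its centre. -/
def L8 : List ℕ := [14, 19, 16, 15, 20, 21, 17, 22]

/-- The roots of the radical. -/
def LQ : List ℕ := L8 ++ [23]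

theorem lq_tables : coordB chevD4 LQ = true ∧ L8.Nodup ∧ (∀ r ∈ LQ, r < chevD4.nroots) ∧
    (∀ r ∈ L8, parD4.rho r ∈ L8 ∧ parD4.lam r = 1) ∧
    (∀ r ∈ LQ, parD4.commB chevD4 23 r = true) ∧
    chevD4.nroots = 24 ∧ chevD4.rank = 4 := by
  decide +kernel

theorem comm_tables : ∀ r ∈ LQ, ∀ s ∈ LQ, r = s ∨ (s ≠ chevD4.neg r ∧
    ∀ c ∈ chevD4.commTerms r s, c.1 = 23) := by
  decide +kernel

theorem pair_tables : parD4.commB chevD4 19 16 = true ∧ parD4.commB chevD4 19 15 = true ∧
    parD4.commB chevD4 16 15 = true ∧ parD4.commB chevD4 20 21 = true ∧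
    parD4.commB chevD4 20 17 = true ∧ parD4.commB chevD4 21 17 = true ∧
    (∀ s ∈ [14, 19, 16, 15, 20, 21, 17], parD4.commB chevD4 14 s = true) ∧
    (∀ s ∈ [19, 16, 15, 20, 21, 17, 22], parD4.commB chevD4 22 s = true) ∧
    (∀ s ∈ [18, 13, 12, 5, 10, 11], parD4.commB chevD4 23 s = true) := by
  decide +kernel

theorem conj_tables : (chevD4.commTerms 14 22 = [(23, 1, 1, 1)] ∧
    chevD4.commTerms 12 14 = [(15, 1, 1, 1)] ∧ chevD4.commTerms 13 14 = [(16, 1, 1, 1)] ∧
    chevD4.commTerms 13 15 = [(17, 1, 1, 1)] ∧ chevD4.commTerms 18 14 = [(19, -1, 1, 1)] ∧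
    chevD4.commTerms 18 15 = [(20, -1, 1, 1)] ∧ chevD4.commTerms 18 16 = [(21, -1, 1, 1)] ∧
    chevD4.commTerms 18 17 = [(22, -1, 1, 1)]) ∧
    parD4.commB chevD4 12 15 = true ∧ parD4.commB chevD4 13 16 = true ∧
    parD4.commB chevD4 13 17 = true ∧ parD4.commB chevD4 18 19 = true ∧
    parD4.commB chevD4 18 20 = true ∧ parD4.commB chevD4 18 21 = true ∧
    parD4.commB chevD4 18 22 = true := by
  refine ⟨⟨?_, ?_, ?_, ?_, ?_, ?_, ?_, ?_⟩, ?_⟩ <;> decide +kernel

theorem sigma_tables : parD4.rho 19 = 16 ∧ parD4.rho 16 = 15 ∧ parD4.rho 15 = 19 ∧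
    parD4.rho 20 = 21 ∧ parD4.rho 21 = 17 ∧ parD4.rho 17 = 20 ∧ parD4.rho 14 = 14 ∧
    parD4.rho 22 = 22 ∧ parD4.rho 23 = 23 ∧
    parD4.eps 19 = -1 ∧ parD4.eps 16 = 1 ∧ parD4.eps 15 = -1 ∧
    parD4.eps 20 = 1 ∧ parD4.eps 21 = -1 ∧ parD4.eps 17 = -1 ∧ parD4.eps 14 = 1 ∧
    parD4.eps 22 = 1 ∧ parD4.eps 23 = 1 ∧
    coordB chevD4 [14] = true ∧ coordB chevD4 [22] = true ∧ coordB chevD4 [23] = true := by
  decide +kernel

theorem cartan_q : (List.range 4).map (fun i => [14, 19, 16, 15, 20, 21, 17, 22, 23, 18, 13, 12].map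
    fun r => chevD4.cartan i r) =
      [[-1, 1, -1, -1, 1, 1, -1, 1, 0, 2, 0, 0], [2, 1, 1, 1, 0, 0, 0, -1, 1, -1, -1, -1],
       [-1, -1, 1, -1, -1, 1, 1, 1, 0, 0, 2, 0], [-1, -1, -1, 1, 1, -1, 1, 1, 0, 0, 0, 2]] := by
  decide +kernel

theorem radical_roots :
    (∀ r : Fin 24, (12 ≤ r.val ∧ r.val ∉ [18, 13, 12]) ↔ r.val ∈ LQ) ∧
    (∀ r : Fin 24, r.val ∈ LQ → 12 ≤ r.val) := by
  decide +kernel

variable {K : Type v} [Field K]

/-- The radical. -/
noncomputable abbrev RQ (K : Type v) [Field K] : Subgroup (GL chevD4.Idx K) :=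
  rootClosure chevD4 K (· ∈ LQ)

/-- The coordinates modulo the centre. -/
def Crd (g : GL chevD4.Idx K) (v : ℕ → K) : Prop :=
  ∃ z : K, g = wU chevD4 (LQ.zip (L8.map v ++ [z]))

theorem xU_mem_RQ {r : ℕ} (h : r ∈ LQ) (t : K) : xU chevD4 r t ∈ RQ K :=
  xU_mem_rootClosure (lq_tables.2.2.1 r h) h t

theorem L8_LQ {r : ℕ} (h : r ∈ L8) : r ∈ LQ := List.mem_append_left _ h

theorem mem23 : 23 ∈ LQ := by decide

theorem word8 (v : ℕ → K) (z : K) : wU chevD4 (LQ.zip (L8.map v ++ [z])) =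
    (L8.map fun r => xU chevD4 r (v r)).prod * xU chevD4 23 z := by
  rw [LQ, List.zip_append (by simp), wU_append, wU, wU]
  congr 1
  simp

theorem prod8_mem (v : ℕ → K) : ∀ l : List ℕ, (∀ r ∈ l, r ∈ L8) →
    (l.map fun r => xU chevD4 r (v r)).prod ∈ RQ K := fun l hl =>
  Subgroup.list_prod_mem _ fun g hg => by
    obtain ⟨r, hr, rfl⟩ := List.mem_map.1 hg
    exact xU_mem_RQ (L8_LQ (hl r hr)) _

variable [Fintype K] {q : ℕ} (C : Ctx K q)

include C

theorem c23 {g : GL chevD4.Idx K} (hg : g ∈ RQ K) (z : K) :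
    Commute (xU chevD4 23 z) g := by
  obtain ⟨-, -, hlt, -, hc, -⟩ := lq_tables
  induction hg using Subgroup.closure_induction with
  | mem x hx =>
    obtain ⟨r, t, hr, h, rfl⟩ := hx
    exact C.sig.commute_xU (hlt 23 mem23) hr (hc r h) z t
  | one => exact Commute.one_right _
  | mul a b _ _ ha hb => exact ha.mul_right hb
  | inv a _ ha => exact ha.inv_right

theorem swap23 {r s : ℕ} (hr : r ∈ LQ) (hs : s ∈ LQ) (t u : K) :
    ∃ z : K, xU chevD4 s u * xU chevD4 r t = xU chevD4 r t * xU chevD4 s u * xU chevD4 23 z := by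
  have hF := DataD4.facts
  have hlt := lq_tables.2.2.1
  rcases eq_or_ne r s with rfl | hne
  · exact ⟨0, by rw [hF.xU_zero (hlt _ mem23), mul_one, hF.xU_add (hlt _ hr), hF.xU_add (hlt _ hr),
      add_comm]⟩
  obtain ⟨hneg, h23⟩ := (comm_tables r hr s hs).resolve_left hne
  rw [hF.xU_comm C.sig.hC (hlt _ hr) (hlt _ hs) (Ne.symm hne) hneg]
  have hw : ∀ l : List (ℕ × K), (∀ p ∈ l, p.1 = 23) → ∃ z, wU chevD4 l = xU chevD4 23 z := by
    intro l
    induction l with
    | nil => exact fun _ => ⟨0, by rw [hF.xU_zero (hlt _ mem23)]; rfl⟩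
    | cons p l ih =>
      intro h
      obtain ⟨z, hz⟩ := ih fun q hq => h q (List.mem_cons_of_mem _ hq)
      exact ⟨p.2 + z, by rw [wU_cons, hz, h p List.mem_cons_self, hF.xU_add (hlt _ mem23)]⟩
  obtain ⟨z, hz⟩ := hw (cwR chevD4 r s t u) fun p hp => by
    obtain ⟨c, hc, rfl⟩ := List.mem_map.1 hp
    exact h23 c hc
  exact ⟨z, by rw [hz]⟩

/-- Moving one root element into a word. -/
theorem absorb {s : ℕ} (hs : s ∈ LQ) (u : K) (v : ℕ → K) :
    ∀ l : List ℕ, (∀ r ∈ l, r ∈ L8) → l.Nodup →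
      ∃ z, xU chevD4 s u * (l.map fun r => xU chevD4 r (v r)).prod =
        (if s ∈ l then (l.map fun r => xU chevD4 r (v r + if r = s then u else 0)).prod
          else (l.map fun r => xU chevD4 r (v r)).prod * xU chevD4 s u) * xU chevD4 23 z := by
  have hF := DataD4.facts
  have hlt := lq_tables.2.2.1
  intro l hl hnd
  induction l with
  | nil => exact ⟨0, by simp [hF.xU_zero (hlt _ mem23)]⟩
  | cons r l ih =>
    obtain ⟨hrl, hnd'⟩ := List.nodup_cons.1 hnd
    have hr : r ∈ L8 := hl r List.mem_cons_self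
    simp only [List.map_cons, List.prod_cons]
    rcases eq_or_ne r s with rfl | hne
    · refine ⟨0, ?_⟩
      rw [if_pos List.mem_cons_self, ← mul_assoc, hF.xU_add (hlt _ hs), hF.xU_zero (hlt _ mem23),
        mul_one, if_pos rfl, add_comm]
      congr 2
      refine List.map_congr_left fun r' hr' => ?_
      rw [if_neg (fun e : r' = r => hrl (e ▸ hr')), add_zero]
    obtain ⟨z₁, e₁⟩ := swap23 C (L8_LQ hr) hs (v r) u
    obtain ⟨z₂, e₂⟩ := ih (fun r' hr' => hl r' (List.mem_cons_of_mem _ hr')) hnd'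
    set Pl := (l.map fun r => xU chevD4 r (v r)).prod with hPl
    have hmem : xU chevD4 s u * Pl ∈ RQ K :=
      mul_mem (xU_mem_RQ hs u) (prod8_mem v l fun r' hr' => hl r' (List.mem_cons_of_mem _ hr'))
    refine ⟨z₂ + z₁, ?_⟩
    rw [← mul_assoc, e₁, mul_assoc (xU chevD4 r (v r) * xU chevD4 s u), (c23 C
      (prod8_mem v l fun r' hr' => hl r' (List.mem_cons_of_mem _ hr')) z₁).eq,
      mul_assoc (xU chevD4 r (v r)), ← mul_assoc (xU chevD4 s u), e₂]
    have hsl : s ∈ r :: l ↔ s ∈ l := by simp [Ne.symm hne]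
    by_cases hs' : s ∈ l
    · rw [if_pos hs', if_pos (hsl.2 hs'), if_neg hne, add_zero]
      simp only [mul_assoc, hF.xU_add (hlt _ mem23)]
    · rw [if_neg hs', if_neg (hsl.not.2 hs')]
      simp only [mul_assoc, hF.xU_add (hlt _ mem23)]

theorem Crd.exists {g : GL chevD4.Idx K} (hg : g ∈ RQ K) : ∃ v, Crd g v := by
  obtain ⟨ts, hts, rfl⟩ := DataD4.facts.exists_coords C.sig.hC lq_tables.1 g hg
  simp only [LQ, L8, List.cons_append, List.nil_append, List.length_cons, List.length_nil] at hts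
  match ts, hts with
  | [a, b, c, d, e, f, g, h, z], _ =>
    exact ⟨fun r => if r = 14 then a else if r = 19 then b else if r = 16 then c
      else if r = 15 then d else if r = 20 then e else if r = 21 then f
      else if r = 17 then g else h, z, by simp [LQ, L8]⟩

theorem Crd.mem {g : GL chevD4.Idx K} {v : ℕ → K} (h : Crd g v) : g ∈ RQ K := by
  obtain ⟨z, rfl⟩ := h
  rw [word8]
  exact mul_mem (prod8_mem v L8 fun r hr => hr) (xU_mem_RQ mem23 z)

theorem Crd.unique {g : GL chevD4.Idx K} {v w : ℕ → K} (h : Crd g v) (h' : Crd g w) :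
    ∀ r ∈ L8, v r = w r := by
  obtain ⟨z, rfl⟩ := h
  obtain ⟨z', e⟩ := h'
  have := DataD4.facts.coords_unique C.sig.hC lq_tables.1
    (ts := L8.map v ++ [z]) (ts' := L8.map w ++ [z']) (by simp [LQ]) (by simp [LQ]) e
  exact List.map_inj_left.1 (List.append_inj_left this (by simp))

theorem Crd.congr {g : GL chevD4.Idx K} {v w : ℕ → K} (h : Crd g v) (e : ∀ r ∈ L8, v r = w r) :
    Crd g w := by
  obtain ⟨z, rfl⟩ := h
  exact ⟨z, by rw [List.map_congr_left e]⟩

theorem crd_one : Crd (1 : GL chevD4.Idx K) 0 := by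
  refine ⟨0, ?_⟩
  rw [word8, DataD4.facts.xU_zero (lq_tables.2.2.1 _ mem23), mul_one]
  refine (List.prod_eq_one fun g hg => ?_).symm
  obtain ⟨r, hr, rfl⟩ := List.mem_map.1 hg
  exact DataD4.facts.xU_zero (lq_tables.2.2.1 _ (L8_LQ hr))

theorem Crd.xU_mul {g : GL chevD4.Idx K} {v : ℕ → K} (h : Crd g v) {r : ℕ} (hr : r ∈ L8) (t : K) :
    Crd (xU chevD4 r t * g) (v + Pi.single r t) := by
  obtain ⟨z, rfl⟩ := h
  rw [word8]
  obtain ⟨z', e⟩ := absorb C (L8_LQ hr) t v L8 (fun r hr => hr) lq_tables.2.1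
  rw [if_pos hr] at e
  refine ⟨z' + z, ?_⟩
  rw [word8, ← mul_assoc, e, mul_assoc, DataD4.facts.xU_add (lq_tables.2.2.1 _ mem23)]
  congr 2
  refine List.map_congr_left fun r' _ => ?_
  simp [Pi.single_apply]

theorem Crd.z_mul {g : GL chevD4.Idx K} {v : ℕ → K} (h : Crd g v) (t : K) :
    Crd (xU chevD4 23 t * g) v := by
  obtain ⟨z, rfl⟩ := h
  refine ⟨t + z, ?_⟩
  rw [word8, word8, ← mul_assoc, (c23 C (prod8_mem v L8 fun r hr => hr) t).eq, mul_assoc,
    DataD4.facts.xU_add (lq_tables.2.2.1 _ mem23)]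

theorem Crd.mul {g h : GL chevD4.Idx K} {v w : ℕ → K} (hg : Crd g v) (hh : Crd h w) :
    Crd (g * h) (v + w) := by
  obtain ⟨z, rfl⟩ := hg
  rw [word8, mul_assoc]
  have hz := hh.z_mul C z
  have : ∀ l : List ℕ, (∀ r ∈ l, r ∈ L8) → l.Nodup →
      Crd ((l.map fun r => xU chevD4 r (v r)).prod * (xU chevD4 23 z * h))
        (fun r => (if r ∈ l then v r else 0) + w r) := by
    intro l hl hnd
    induction l with
    | nil => exact Crd.congr C (by simpa using hz) fun r _ => by simp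
    | cons r l ih =>
      obtain ⟨hrl, hnd'⟩ := List.nodup_cons.1 hnd
      rw [List.map_cons, List.prod_cons, mul_assoc]
      refine Crd.congr C ((ih (fun r' hr' => hl r' (List.mem_cons_of_mem _ hr')) hnd').xU_mul C
        (hl r List.mem_cons_self) (v r)) fun r' _ => ?_
      rcases eq_or_ne r' r with rfl | hne
      · simp [hrl, add_comm]
      · simp [hne]
  exact Crd.congr C (this L8 (fun r hr => hr) lq_tables.2.1) fun r hr => by simp [hr]

theorem Crd.inv {g : GL chevD4.Idx K} {v : ℕ → K} (hg : Crd g v) : Crd g⁻¹ (-v) := by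
  obtain ⟨w, hw⟩ := Crd.exists C (inv_mem (hg.mem C))
  refine Crd.congr C hw fun r hr => ?_
  have := Crd.unique C (Crd.mul C hg hw) (mul_inv_cancel g ▸ crd_one C) r hr
  exact eq_neg_of_add_eq_zero_right this

theorem crd_xU {r : ℕ} (hr : r ∈ L8) (t : K) : Crd (xU chevD4 r t) (Pi.single r t) := by
  simpa using (crd_one C).xU_mul C hr t

theorem crd_z (t : K) : Crd (xU chevD4 23 t) (0 : ℕ → K) := by
  simpa using (crd_one C).z_mul C t

theorem mem23_of_crd {g : GL chevD4.Idx K} {v : ℕ → K} (h : Crd g v) (h0 : ∀ r ∈ L8, v r = 0) :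
    ∃ z, g = xU chevD4 23 z := by
  obtain ⟨z, rfl⟩ := h.congr C (w := 0) h0
  refine ⟨z, ?_⟩
  rw [word8, (List.prod_eq_one (fun g hg => by
    obtain ⟨r, hr, rfl⟩ := List.mem_map.1 hg
    exact DataD4.facts.xU_zero (lq_tables.2.2.1 _ (L8_LQ hr)))), one_mul]

/-! ### The root elements -/

/-- The element of a triple of roots next to the long simple one. -/
noncomputable def eAB (u : K) : GL chevD4.Idx K :=
  xU chevD4 19 u * (xU chevD4 16 (-C.f u) * xU chevD4 15 (-C.f (C.f u)))

/-- The element of the other triple of roots of the radical. -/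
noncomputable def eA2B (w : K) : GL chevD4.Idx K :=
  xU chevD4 20 w * (xU chevD4 21 (C.f w) * xU chevD4 17 (-C.f (C.f w)))

/-- The element of the simple triple. -/
noncomputable def eB (t : K) : GL chevD4.Idx K :=
  xU chevD4 18 t * (xU chevD4 13 (C.f t) * xU chevD4 12 (C.f (C.f t)))

/-- The coordinates of a product of root elements of the radical. -/
def crdV (s u w y : K) : ℕ → K := fun r =>
  if r = 14 then s else if r = 19 then u else if r = 16 then -C.f u
  else if r = 15 then -C.f (C.f u) else if r = 20 then w else if r = 21 then C.f w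
  else if r = 17 then -C.f (C.f w) else if r = 22 then y else 0

theorem crd_prod (s u w y z : K) :
    Crd (xU chevD4 14 s * eAB C u * eA2B C w * xU chevD4 22 y * xU chevD4 23 z)
      (crdV C s u w y) := by
  have h := fun (r : ℕ) (hr : r ∈ L8) (t : K) => crd_xU C hr t
  refine Crd.congr C ((((h 14 (by decide) s).mul C ((h 19 (by decide) u).mul C
    ((h 16 (by decide) (-C.f u)).mul C (h 15 (by decide) (-C.f (C.f u)))))).mul C
    ((h 20 (by decide) w).mul C ((h 21 (by decide) (C.f w)).mul C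
      (h 17 (by decide) (-C.f (C.f w)))))).mul C (h 22 (by decide) y) |>.mul C (crd_z C z)) ?_
  intro r hr
  simp only [L8, List.mem_cons, List.not_mem_nil, or_false] at hr
  rcases hr with rfl | rfl | rfl | rfl | rfl | rfl | rfl | rfl <;> simp [crdV]

theorem crd_ext {g g' : GL chevD4.Idx K} {v : ℕ → K} (h : Crd g v) (h' : Crd g' v) :
    ∃ z, g = g' * xU chevD4 23 z := by
  obtain ⟨z, hz⟩ := mem23_of_crd C ((h'.inv C).mul C h) (fun r _ => by simp)
  exact ⟨z, by rw [← hz, mul_inv_cancel_left]⟩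

theorem coef_eval (r : ℕ) (t : K) (h : parD4.lam r = 1) :
    parD4.coef C.f r t = (parD4.eps r : K) * C.f t := by
  simp [TwPar.coef, h]

theorem fix_single_f {r : ℕ} (hc : coordB chevD4 [r] = true) (hρ : parD4.rho r = r)
    (he : parD4.eps r = 1) (t : K) : xU chevD4 r t ∈ fixS C.σ ↔ t ^ q = t := by
  rw [C.sig.fix_single_iff hc hρ he rfl t, C.hf]

theorem eAB_fix (u : K) : eAB C u ∈ fixS C.σ := by
  obtain ⟨r19, r16, r15, -, -, -, -, -, -, e19, e16, e15, -⟩ := sigma_tables
  obtain ⟨c1, c2, c3, -⟩ := pair_tables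
  have i1 := C.sig.img_xU (r := 19) (by decide) u
  have i2 := C.sig.img_xU (r := 16) (by decide) (-C.f u)
  have i3 := C.sig.img_xU (r := 15) (by decide) (-C.f (C.f u))
  rw [r19, coef_eval C 19 u rfl, e19] at i1
  rw [r16, coef_eval C 16 _ rfl, e16] at i2
  rw [r15, coef_eval C 15 _ rfl, e15] at i3
  simp only [Int.cast_neg, Int.cast_one, neg_mul, one_mul, map_neg, _root_.neg_neg,
    C.pow_three] at i1 i2 i3
  have := i1.mul (i2.mul i3)
  rw [mem_fixS, eAB]
  convert this using 1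
  rw [← mul_assoc (xU chevD4 16 (-C.f u)), ((C.sig.commute_xU (by decide) (by decide) c1 u
    (-C.f u)).symm.mul_left (C.sig.commute_xU (by decide) (by decide) c2 u
    (-C.f (C.f u))).symm).eq]

theorem eA2B_fix (w : K) : eA2B C w ∈ fixS C.σ := by
  obtain ⟨-, -, -, r20, r21, r17, -, -, -, -, -, -, e20, e21, e17, -⟩ := sigma_tables
  obtain ⟨-, -, -, c4, c5, -⟩ := pair_tables
  have i1 := C.sig.img_xU (r := 20) (by decide) w
  have i2 := C.sig.img_xU (r := 21) (by decide) (C.f w)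
  have i3 := C.sig.img_xU (r := 17) (by decide) (-C.f (C.f w))
  rw [r20, coef_eval C 20 w rfl, e20] at i1
  rw [r21, coef_eval C 21 _ rfl, e21] at i2
  rw [r17, coef_eval C 17 _ rfl, e17] at i3
  simp only [Int.cast_neg, Int.cast_one, neg_mul, one_mul, map_neg, _root_.neg_neg,
    C.pow_three] at i1 i2 i3
  have := i1.mul (i2.mul i3)
  rw [mem_fixS, eA2B]
  convert this using 1
  rw [← mul_assoc (xU chevD4 21 (C.f w)), ((C.sig.commute_xU (by decide) (by decide) c4 w
    (C.f w)).symm.mul_left (C.sig.commute_xU (by decide) (by decide) c5 w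
    (-C.f (C.f w))).symm).eq]

theorem eB_eq (t : K) :
    eB C t = wU chevD4 [(d4p1, t), (d4p3, t ^ q), (d4p4, t ^ (q ^ 2))] := by
  simp only [eB, wU, List.map_cons, List.map_nil, List.prod_cons, List.prod_nil, mul_one, C.hf,
    ← pow_mul, sq]
  rfl

theorem eB_mem (t : K) : eB C t ∈ twistedD4 K q := by
  rw [eB_eq]
  exact C.mem_gen (Or.inr ⟨t, (d4p1, d4p3, d4p4), by simp, rfl⟩)

theorem mem_G_of_fix {g : GL chevD4.Idx K} (hg : g ∈ RQ K) (hf : g ∈ fixS C.σ) :
    g ∈ twistedD4 K q :=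
  C.sys.posU_le ⟨hf, rootClosure_mono (fun r hr h => by
    have := radical_roots.2 ⟨r, lq_tables.2.2.2.2.2.1 ▸ hr⟩ h
    simpa [lq_tables.2.2.2.2.2.1] using this) hg⟩

theorem eAB_RQ (u : K) : eAB C u ∈ RQ K :=
  mul_mem (xU_mem_RQ (by decide) _) (mul_mem (xU_mem_RQ (by decide) _) (xU_mem_RQ (by decide) _))

theorem eA2B_RQ (w : K) : eA2B C w ∈ RQ K :=
  mul_mem (xU_mem_RQ (by decide) _) (mul_mem (xU_mem_RQ (by decide) _) (xU_mem_RQ (by decide) _))

theorem eAB_add (u u' : K) : eAB C (u + u') = eAB C u * eAB C u' := by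
  have hF := DataD4.facts
  obtain ⟨c1, c2, c3, -⟩ := pair_tables
  have hlt := lq_tables.2.2.1
  simp only [eAB, map_add, neg_add]
  rw [((C.sig.commute_xU (by decide) (by decide) c1 u' (-C.f u)).symm.mul_left
      (C.sig.commute_xU (by decide) (by decide) c2 u' (-C.f (C.f u))).symm).mul_mul_mul_comm,
    (C.sig.commute_xU (by decide) (by decide) c3 (-C.f u') (-C.f (C.f u))).symm.mul_mul_mul_comm,
    hF.xU_add (by decide), hF.xU_add (by decide), hF.xU_add (by decide)]

theorem eA2B_add (w w' : K) : eA2B C (w + w') = eA2B C w * eA2B C w' := by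
  have hF := DataD4.facts
  obtain ⟨-, -, -, c4, c5, c6, -⟩ := pair_tables
  simp only [eA2B, map_add, neg_add]
  rw [((C.sig.commute_xU (by decide) (by decide) c4 w' (C.f w)).symm.mul_left
      (C.sig.commute_xU (by decide) (by decide) c5 w' (-C.f (C.f w))).symm).mul_mul_mul_comm,
    (C.sig.commute_xU (by decide) (by decide) c6 (C.f w') (-C.f (C.f w))).symm.mul_mul_mul_comm,
    hF.xU_add (by decide), hF.xU_add (by decide), hF.xU_add (by decide)]

theorem eB_add (t t' : K) : eB C (t + t') = eB C t * eB C t' := by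
  simp only [eB, map_add]
  exact (C.triple_add _ _ _ _ _ _).symm

/-- The decomposition of a fixed element of the radical. -/
theorem fix_decomp {g : GL chevD4.Idx K} (hg : g ∈ RQ K) (hf : g ∈ fixS C.σ) :
    ∃ s u w y z : K, s ^ q = s ∧ y ^ q = y ∧ z ^ q = z ∧
      g = xU chevD4 14 s * eAB C u * eA2B C w * xU chevD4 22 y * xU chevD4 23 z := by
  obtain ⟨r19, r16, r15, r20, r21, r17, r14, r22, r23, e19, e16, e15, e20, e21, e17, e14, e22,
    e23, h14, h22, h23⟩ := sigma_tables
  obtain ⟨v, hv⟩ := Crd.exists C hg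
  have himg : Crd g (fun r => if r = 14 then C.f (v 14) else if r = 22 then C.f (v 22)
      else if r = 19 then -C.f (v 15) else if r = 16 then -C.f (v 19)
      else if r = 15 then C.f (v 16) else if r = 20 then -C.f (v 17)
      else if r = 21 then C.f (v 20) else -C.f (v 21)) := by
    obtain ⟨z, e⟩ := hv
    rw [word8] at e
    have h1 : Img C.σ g ((L8.map fun r => xU chevD4 (parD4.rho r) (parD4.coef C.f r (v r))).prod *
        xU chevD4 23 (parD4.coef C.f 23 z)) := by
      rw [e]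
      refine (Img.list _ _ L8 fun r hr => C.sig.img_xU (lq_tables.2.2.1 r (L8_LQ hr)) _).mul ?_
      have := C.sig.img_xU (r := 23) (by decide) z
      rwa [r23] at this
    rw [← h1.unique hf]
    have hl : (L8.map fun r => xU chevD4 (parD4.rho r) (parD4.coef C.f r (v r))).prod *
        xU chevD4 23 (parD4.coef C.f 23 z) =
      xU chevD4 14 (C.f (v 14)) * (xU chevD4 16 (-C.f (v 19)) * (xU chevD4 15 (C.f (v 16)) *
      (xU chevD4 19 (-C.f (v 15)) * (xU chevD4 21 (C.f (v 20)) * (xU chevD4 17 (-C.f (v 21)) *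
      (xU chevD4 20 (-C.f (v 17)) * (xU chevD4 22 (C.f (v 22)) *
        xU chevD4 23 (parD4.coef C.f 23 z)))))))) := by
      simp only [L8, List.map_cons, List.map_nil, List.prod_cons, List.prod_nil, mul_one,
        coef_eval C _ _ rfl, r14, r19, r16, r15, r20, r21, r17, r22, e14, e19, e16, e15, e20,
        e21, e17, e22, Int.cast_one, Int.cast_neg, one_mul, neg_mul, mul_assoc]
    rw [hl]
    refine Crd.congr C ((crd_xU C (r := 14) (by decide) _).mul C ((crd_xU C (r := 16) (by decide) _).mul C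
      ((crd_xU C (r := 15) (by decide) _).mul C ((crd_xU C (r := 19) (by decide) _).mul C
      ((crd_xU C (r := 21) (by decide) _).mul C ((crd_xU C (r := 17) (by decide) _).mul C
      ((crd_xU C (r := 20) (by decide) _).mul C ((crd_xU C (r := 22) (by decide) _).mul C
        (crd_z C _))))))))) ?_
    intro r hr
    simp only [L8, List.mem_cons, List.not_mem_nil, or_false] at hr
    rcases hr with rfl | rfl | rfl | rfl | rfl | rfl | rfl | rfl <;> simp
  have hu := Crd.unique C hv himg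
  have u14 : v 14 = C.f (v 14) := by simpa using hu 14 (by decide)
  have u22 : v 22 = C.f (v 22) := by simpa using hu 22 (by decide)
  have u16 : v 16 = -C.f (v 19) := by simpa using hu 16 (by decide)
  have u15 : v 15 = C.f (v 16) := by simpa using hu 15 (by decide)
  have u21 : v 21 = C.f (v 20) := by simpa using hu 21 (by decide)
  have u17 : v 17 = -C.f (v 21) := by simpa using hu 17 (by decide)
  have hcrd : Crd g (crdV C (v 14) (v 19) (v 20) (v 22)) := Crd.congr C hv fun r hr => by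
    simp only [L8, List.mem_cons, List.not_mem_nil, or_false] at hr
    rcases hr with rfl | rfl | rfl | rfl | rfl | rfl | rfl | rfl <;>
      simp [crdV, u16, u15, u21, u17]
  obtain ⟨z, e⟩ := crd_ext C hcrd (crd_prod C (v 14) (v 19) (v 20) (v 22) 0)
  rw [DataD4.facts.xU_zero (by decide), mul_one] at e
  have s14 : v 14 ^ q = v 14 := by rw [← C.hf]; exact u14.symm
  have s22 : v 22 ^ q = v 22 := by rw [← C.hf]; exact u22.symm
  refine ⟨v 14, v 19, v 20, v 22, z, s14, s22, ?_, e⟩
  refine (fix_single_f C h23 r23 e23 z).1 ?_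
  have hp : xU chevD4 14 (v 14) * eAB C (v 19) * eA2B C (v 20) * xU chevD4 22 (v 22) ∈
      fixS C.σ :=
    mul_mem (mul_mem (mul_mem ((fix_single_f C h14 r14 e14 _).2 s14) (eAB_fix C _)) (eA2B_fix C _))
      ((fix_single_f C h22 r22 e22 _).2 s22)
  have := mul_mem (inv_mem hp) hf
  rw [e] at this
  rwa [inv_mul_cancel_left] at this

/-! ### Commutators and conjugates -/

/-- Conjugation of one root element by another, for a single commutator term. -/
theorem conj_single {r s k : ℕ} {c : ℤ} (hr : r < chevD4.nroots) (hs : s < chevD4.nroots)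
    (hk : k < chevD4.nroots) (hne : s ≠ r ∧ s ≠ chevD4.neg r)
    (hT : chevD4.commTerms r s = [(k, c, 1, 1)]) (hcomm : parD4.commB chevD4 r k = true) (t u : K) :
    xU chevD4 r t * xU chevD4 s u * (xU chevD4 r t)⁻¹ = xU chevD4 s u * xU chevD4 k (c * t * u) := by
  have hF := DataD4.facts
  have h := hF.xU_comm C.sig.hC hr hs hne.1 hne.2 t u
  have hw : wU chevD4 (cwR chevD4 r s t u) = xU chevD4 k ((c : K) * -t * u) := by
    simp [cwR, hT, wU]
  rw [hw, show (c : K) * -t * u = -(c * t * u) by ring, ← hF.xU_inv hk] at h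
  have hck := C.sig.commute_xU (t := t) (u := ((c : K) * t * u)) hr hk hcomm
  rw [mul_inv_eq_iff_eq_mul, mul_assoc, ← hck.eq, ← mul_assoc, h, inv_mul_cancel_right]

theorem comm_A_C22 (s y : K) :
    xU chevD4 14 s * xU chevD4 22 y * (xU chevD4 14 s)⁻¹ * (xU chevD4 22 y)⁻¹ =
      xU chevD4 23 (s * y) := by
  obtain ⟨⟨hT, -⟩, -⟩ := conj_tables
  rw [conj_single C (by decide) (by decide) (by decide) (by decide) hT
    (by decide +kernel) s y,
    ← (c23 C (g := xU chevD4 22 y) (xU_mem_RQ (by decide) y) _).eq]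
  simp

/-- Conjugation of the long simple root element by the short simple triple. -/
theorem conj_A (t : K) {s : K} (hs : s ^ q = s) : ∃ z : K,
    eB C t * xU chevD4 14 s * (eB C t)⁻¹ =
      xU chevD4 14 s * eAB C (-(t * s)) * eA2B C (-(t * C.f (C.f t) * s)) *
        xU chevD4 22 (-(t * C.f t * C.f (C.f t) * s)) * xU chevD4 23 z := by
  obtain ⟨⟨-, t1, t2, t3, t4, t5, t6, t7⟩, b1, b2, b3, b4, b5, b6, b7⟩ := conj_tables
  set a := t
  set b := C.f t with hb
  set c := C.f (C.f t) with hc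
  have h12 : xU chevD4 12 c * xU chevD4 14 s * (xU chevD4 12 c)⁻¹ =
      xU chevD4 14 s * xU chevD4 15 (c * s) := by
    rw [conj_single C (by decide) (by decide) (by decide) (by decide) t1 b1]; simp
  have h13 : ∀ u, xU chevD4 13 b * xU chevD4 15 u * (xU chevD4 13 b)⁻¹ =
      xU chevD4 15 u * xU chevD4 17 (b * u) := fun u => by
    rw [conj_single C (by decide) (by decide) (by decide) (by decide) t3 b3]; simp
  have h13' : xU chevD4 13 b * xU chevD4 14 s * (xU chevD4 13 b)⁻¹ =
      xU chevD4 14 s * xU chevD4 16 (b * s) := by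
    rw [conj_single C (by decide) (by decide) (by decide) (by decide) t2 b2]; simp
  have h18 : xU chevD4 18 a * xU chevD4 14 s * (xU chevD4 18 a)⁻¹ =
      xU chevD4 14 s * xU chevD4 19 (-(a * s)) := by
    rw [conj_single C (by decide) (by decide) (by decide) (by decide) t4 b4]; simp
  have h15 : ∀ u, xU chevD4 18 a * xU chevD4 15 u * (xU chevD4 18 a)⁻¹ =
      xU chevD4 15 u * xU chevD4 20 (-(a * u)) := fun u => by
    rw [conj_single C (by decide) (by decide) (by decide) (by decide) t5 b5]; simp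
  have h16 : ∀ u, xU chevD4 18 a * xU chevD4 16 u * (xU chevD4 18 a)⁻¹ =
      xU chevD4 16 u * xU chevD4 21 (-(a * u)) := fun u => by
    rw [conj_single C (by decide) (by decide) (by decide) (by decide) t6 b6]; simp
  have h17 : ∀ u, xU chevD4 18 a * xU chevD4 17 u * (xU chevD4 18 a)⁻¹ =
      xU chevD4 17 u * xU chevD4 22 (-(a * u)) := fun u => by
    rw [conj_single C (by decide) (by decide) (by decide) (by decide) t7 b7]; simp
  have key : eB C t * xU chevD4 14 s * (eB C t)⁻¹ =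
      (xU chevD4 14 s * xU chevD4 19 (-(a * s))) * (xU chevD4 16 (b * s) *
        xU chevD4 21 (-(a * (b * s)))) * ((xU chevD4 15 (c * s) * xU chevD4 20 (-(a * (c * s)))) *
          (xU chevD4 17 (b * (c * s)) * xU chevD4 22 (-(a * (b * (c * s)))))) := by
    rw [← h18, ← h16, ← h15, ← h17, eB, ← hb, ← hc]
    calc xU chevD4 18 a * (xU chevD4 13 b * xU chevD4 12 c) * xU chevD4 14 s *
          (xU chevD4 18 a * (xU chevD4 13 b * xU chevD4 12 c))⁻¹
        = xU chevD4 18 a * (xU chevD4 13 b * (xU chevD4 12 c * xU chevD4 14 s *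
            (xU chevD4 12 c)⁻¹) * (xU chevD4 13 b)⁻¹) * (xU chevD4 18 a)⁻¹ := by group
      _ = xU chevD4 18 a * ((xU chevD4 13 b * xU chevD4 14 s * (xU chevD4 13 b)⁻¹) *
            (xU chevD4 13 b * xU chevD4 15 (c * s) * (xU chevD4 13 b)⁻¹)) * (xU chevD4 18 a)⁻¹ := by
          rw [h12]; group
      _ = _ := by rw [h13', h13]; group
  have h := fun (r : ℕ) (hr : r ∈ L8) (t : K) => crd_xU C hr t
  have hcrd : Crd (eB C t * xU chevD4 14 s * (eB C t)⁻¹)
      (crdV C s (-(t * s)) (-(t * C.f (C.f t) * s)) (-(t * C.f t * C.f (C.f t) * s))) := by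
    rw [key]
    refine Crd.congr C ((((h 14 (by decide) _).mul C (h 19 (by decide) _)).mul C
      ((h 16 (by decide) _).mul C (h 21 (by decide) _))).mul C
      (((h 15 (by decide) _).mul C (h 20 (by decide) _)).mul C
        ((h 17 (by decide) _).mul C (h 22 (by decide) _)))) ?_
    have hfs : C.f s = s := by rw [C.hf, hs]
    intro r hr
    simp only [L8, List.mem_cons, List.not_mem_nil, or_false] at hr
    rcases hr with rfl | rfl | rfl | rfl | rfl | rfl | rfl | rfl <;>
      simp [crdV, a, b, c, hfs, C.pow_three, map_mul, map_neg] <;> ring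
  obtain ⟨z, e⟩ := crd_ext C hcrd (crd_prod C _ _ _ _ 0)
  rw [DataD4.facts.xU_zero (by decide), mul_one] at e
  exact ⟨z, e⟩

/-! ### The torus -/

/-- The character of a torus element on a root. -/
theorem torus_conj (c : ℕ → Kˣ) {r : ℕ} (hr : r < chevD4.nroots) (t : K) :
    hT chevD4 c * xU chevD4 r t * (hT chevD4 c)⁻¹ = xU chevD4 r
      (((c 0 ^ chevD4.cartan 0 r * c 1 ^ chevD4.cartan 1 r * c 2 ^ chevD4.cartan 2 r *
        c 3 ^ chevD4.cartan 3 r : Kˣ) : K) * t) := by
  rw [DataD4.facts.hT_conj_xU c hr]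
  have : Finset.range chevD4.rank = Finset.range 4 := congrArg Finset.range tables.2.1
  rw [this]
  simp [Finset.prod_range_succ]

theorem torus_vals (a b : Kˣ) :
    (∀ x, hT chevD4 (C.vec a b) * xU chevD4 14 x * (hT chevD4 (C.vec a b))⁻¹ =
      xU chevD4 14 (((b : K) * b / ((a : K) * C.f a * C.f (C.f a))) * x)) ∧
    (∀ x, hT chevD4 (C.vec a b) * xU chevD4 22 x * (hT chevD4 (C.vec a b))⁻¹ =
      xU chevD4 22 (((a : K) * C.f a * C.f (C.f a) / (b : K)) * x)) ∧
    (∀ x, hT chevD4 (C.vec a b) * xU chevD4 23 x * (hT chevD4 (C.vec a b))⁻¹ =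
      xU chevD4 23 ((b : K) * x)) ∧
    (∀ u, C.f b = b → hT chevD4 (C.vec a b) * eAB C u * (hT chevD4 (C.vec a b))⁻¹ =
      eAB C (((a : K) * b / (C.f a * C.f (C.f a))) * u)) ∧
    (∀ w, C.f b = b → hT chevD4 (C.vec a b) * eA2B C w * (hT chevD4 (C.vec a b))⁻¹ =
      eA2B C (((a : K) * C.f (C.f a) / C.f a) * w)) ∧
    (∀ t, C.f b = b → hT chevD4 (C.vec a b) * eB C t * (hT chevD4 (C.vec a b))⁻¹ =
      eB C (((a : K) * a / b) * t)) := by
  have hc := cartan_q
  simp only [List.range, List.range.loop, List.map_cons, List.map_nil, List.cons.injEq,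
    and_true] at hc
  obtain ⟨⟨p14, p19, p16, p15, p20, p21, p17, p22, p23, p18, p13, p12⟩,
    ⟨r14, r19, r16, r15, r20, r21, r17, r22, r23, r18, r13, r12⟩,
    ⟨s14, s19, s16, s15, s20, s21, s17, s22, s23, s18, s13, s12⟩,
    ⟨u14, u19, u16, u15, u20, u21, u17, u22, u23, u18, u13, u12⟩⟩ := hc
  have c0 : C.vec a b 0 = a := rfl
  have c1 : C.vec a b 1 = b := rfl
  have c2 : C.vec a b 2 = C.fu a := rfl
  have c3 : C.vec a b 3 = C.fu (C.fu a) := rfl
  have hf : ∀ x : Kˣ, ((C.fu x : Kˣ) : K) = C.f x := fun x => rfl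
  have e3 : C.f (C.f (C.f (a : K))) = a := C.pow_three _
  set H := hT chevD4 (C.vec a b)
  have hsplit : ∀ x y z : GL chevD4.Idx K, H * (x * (y * z)) * H⁻¹ =
      H * x * H⁻¹ * ((H * y * H⁻¹) * (H * z * H⁻¹)) := fun x y z => by group
  have hsimp := fun (r : ℕ) (hr : r < chevD4.nroots) (x : K) =>
    torus_conj C (C.vec a b) hr x
  refine ⟨fun x => ?_, fun x => ?_, fun x => ?_, fun u hb => ?_, fun w hb => ?_, fun t hb => ?_⟩
  · rw [hsimp 14 (by decide)]
    congr 1
    simp only [c0, c1, c2, c3, p14, r14, s14, u14, Units.val_mul, Units.val_inv_eq_inv_val, Units.val_one, hf,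
      zpow_neg, zpow_one, zpow_two]
    field_simp
  · rw [hsimp 22 (by decide)]
    congr 1
    simp only [c0, c1, c2, c3, p22, r22, s22, u22, Units.val_mul, Units.val_inv_eq_inv_val, Units.val_one, hf,
      zpow_neg, zpow_one]
    field_simp
  · rw [hsimp 23 (by decide)]
    congr 1
    simp only [c0, c1, c2, c3, p23, r23, s23, u23, zpow_zero, zpow_one, one_mul, mul_one]
  · rw [eAB, hsplit, hsimp 19 (by decide), hsimp 16 (by decide), hsimp 15 (by decide), eAB]
    simp only [c0, c1, c2, c3, p19, r19, s19, u19, p16, r16, s16, u16, p15, r15, s15, u15,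
      Units.val_mul, Units.val_inv_eq_inv_val, Units.val_one, hf, zpow_neg, zpow_one, map_mul, map_div₀, hb, e3]
    congr 2
    · field_simp
    congr 1 <;> congr 1
    all_goals first | field_simp | (congr 1; field_simp)
  · rw [eA2B, hsplit, hsimp 20 (by decide), hsimp 21 (by decide), hsimp 17 (by decide), eA2B]
    simp only [c0, c1, c2, c3, p20, r20, s20, u20, p21, r21, s21, u21, p17, r17, s17, u17,
      Units.val_mul, Units.val_inv_eq_inv_val, Units.val_one, hf, zpow_neg, zpow_one, zpow_zero, map_mul,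
      map_div₀, e3]
    congr 2
    · field_simp
    congr 1 <;> congr 1
    all_goals first | field_simp | (congr 1; field_simp)
  · rw [eB, hsplit, hsimp 18 (by decide), hsimp 13 (by decide), hsimp 12 (by decide), eB]
    simp only [c0, c1, c2, c3, p18, r18, s18, u18, p13, r13, s13, u13, p12, r12, s12, u12,
      Units.val_mul, Units.val_inv_eq_inv_val, Units.val_one, hf, zpow_neg, zpow_one, zpow_zero, zpow_two,
      map_mul, map_div₀, hb]
    congr 2
    · field_simp
    congr 1 <;> congr 1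
    all_goals first | field_simp | (congr 1; field_simp)

end CfsgLib.Chev.TwD4.Mult
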