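/-
The two rank one subgroups of ³D₄ and their Weyl elements.
-/
import Mathlib
import Cfsg.Agent.Lib.Chev.Twist.G2Pair
import Cfsg.Agent.Lib.Chev.Twist.D4Torus.Emb
import Cfsg.Agent.Lib.Recognition.Triality.Roots
import Cfsg.Agent.Lib.Chev.Twist.CoverBN
import Cfsg.Agent.Lib.Components.SLBlock
import Cfsg.Agent.Lib.Cores.Components
import Cfsg.Agent.S2426

set_option autoImplicit false
set_option maxRecDepth 20000
set_option maxHeartbeats 1000000

namespace CfsgLib.Chev.TwD4.Mult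

open Cfsg.Lie CfsgLib.Chev.TwD4.Torus
open scoped MatrixGroups

universe v

/-- The orbit of the long simple root. -/
abbrev o0 : Fin spec.length := ⟨0, by decide⟩

/-- The orbit of the short simple root. -/
abbrev o1 : Fin spec.length := ⟨1, by decide⟩

theorem perm_tables :
    (∀ r : Fin 24, [3, 2, 0].foldr (fun i x => chevD4.reflectRoot i x) r.val =
      ((O o1).word.map Fin.val).foldr (fun i x => chevD4.reflectRoot i x) r.val) ∧
    (∀ r : Fin 24, [1].foldr (fun i x => chevD4.reflectRoot i x) r.val =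
      ((O o0).word.map Fin.val).foldr (fun i x => chevD4.reflectRoot i x) r.val) ∧
    ((O o1).word.map Fin.val).foldr (fun i x => chevD4.reflectRoot i x) 14 = 22 ∧
    (((O o1).word ++ (O o0).word).map Fin.val).foldr (fun i x => chevD4.reflectRoot i x) 23 = 14 ∧
    ((O o1).word.map Fin.val).foldr (fun i x => chevD4.reflectRoot i x) 22 = 14 := by
  decide +kernel

theorem split_coord : coordB chevD4 [18, 13, 12] = true := by decide +kernel

variable {K : Type v} [Field K] [Fintype K] {q : ℕ} (C : Ctx K q)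
include C

theorem root_true {F : Type*} [Field F] (t : F) :
    Cfsg.Agent.S2426.root (true, t) = (upM t : SL(2, F)) := by
  refine Subtype.ext ?_
  rw [Cfsg.Agent.S2426.root_val]
  simp [upM]

/-- The rank one subgroup of the short simple triple. -/
theorem exists_homB : ∃ φ : SL(2, K) →* ↥(twistedD4 K q),
    (∀ t, (φ (upM t) : GL chevD4.Idx K) = eB C t) ∧
    (∀ x z, Commute (xU chevD4 23 z) (φ x : GL chevD4.Idx K)) ∧
    (∀ g ∈ C.sys.orbSet o1, ∃ (x : SL(2, K)) (t : K),
      g = φ (x * Cfsg.Agent.S2426.root (true, t) * x⁻¹)) ∧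
    (∀ μ : Kˣ, ∃ x, (φ x : GL chevD4.Idx K) = hT chevD4 (C.vec μ 1)) ∧
    Function.Injective φ := by
  have hF := DataD4.facts
  obtain ⟨k31, k41, k43, g31, g41, g43, l31, l41, l43, m31, m41, m43, n1, -, n3, n4⟩ :=
    cross_commutes
  have h1 : d4p1 < chevD4.nroots := by decide
  have h3 : d4p3 < chevD4.nroots := by decide
  have h4 : d4p4 < chevD4.nroots := by decide
  have R1 := hF.rankOne (F := K) h1
  have R3 := hF.rankOne (F := K) h3
  have R4 := hF.rankOne (F := K) h4
  have hm1 : d4m1 < chevD4.nroots := by decide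
  have hm3 : d4m3 < chevD4.nroots := by decide
  have hm4 : d4m4 < chevD4.nroots := by decide
  obtain ⟨H₂, R34, hH₂⟩ := R4.exists_prod R3 C.f
    (fun s t => C.sig.commute_xU h4 h3 k43 s t)
    (fun s t => by rw [n3]; exact C.sig.commute_xU h4 hm3 g43 s t)
    (fun s t => by rw [n4]; exact C.sig.commute_xU hm4 h3 l43 s t)
    (fun s t => by rw [n3, n4]; exact C.sig.commute_xU hm4 hm3 m43 s t)
  obtain ⟨H, R, hH⟩ := R34.exists_prod R1 C.f
    (fun s t => (C.sig.commute_xU h4 h1 k41 _ t).mul_left (C.sig.commute_xU h3 h1 k31 _ t))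
    (fun s t => by
      rw [n1]; exact (C.sig.commute_xU h4 hm1 g41 _ t).mul_left (C.sig.commute_xU h3 hm1 g31 _ t))
    (fun s t => by
      simp only [n3, n4]
      exact (C.sig.commute_xU hm4 h1 l41 _ t).mul_left (C.sig.commute_xU hm3 h1 l31 _ t))
    (fun s t => by
      simp only [n1, n3, n4]
      exact (C.sig.commute_xU hm4 hm1 m41 _ t).mul_left (C.sig.commute_xU hm3 hm1 m31 _ t))
  obtain ⟨φ, hmem, hval⟩ := R.exists_hom
  have hx : ∀ t, xU chevD4 d4p4 (C.f (C.f t)) * xU chevD4 d4p3 (C.f t) * xU chevD4 d4p1 t =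
      eB C t := fun t => by
    rw [eB, show (18 : ℕ) = d4p1 from rfl, show (13 : ℕ) = d4p3 from rfl,
      show (12 : ℕ) = d4p4 from rfl,
      ((C.sig.commute_xU h4 h1 k41 _ t).mul_left (C.sig.commute_xU h3 h1 k31 _ t)).eq,
      (C.sig.commute_xU h4 h3 k43 (C.f (C.f t)) (C.f t)).eq]
  have hy : ∀ t, xU chevD4 d4m4 (C.f (C.f t)) * xU chevD4 d4m3 (C.f t) * xU chevD4 d4m1 t ∈
      twistedD4 K q := fun t => by
    have := C.mem_gen (Or.inr ⟨t, (d4m1, d4m3, d4m4), by simp, rfl⟩)
    simp only [wU, List.map_cons, List.map_nil, List.prod_cons, List.prod_nil, mul_one] at this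
    rw [((C.sig.commute_xU hm4 hm1 m41 _ t).mul_left (C.sig.commute_xU hm3 hm1 m31 _ t)).eq,
      (C.sig.commute_xU hm4 hm3 m43 (C.f (C.f t)) (C.f t)).eq]
    simpa [C.hf, ← pow_mul, sq] using this
  have hG : ∀ g, φ g ∈ twistedD4 K q := fun g => (Subgroup.closure_le _).2 (by
    rintro _ (⟨t, rfl⟩ | ⟨t, rfl⟩)
    · show xU chevD4 d4p4 (C.f (C.f t)) * xU chevD4 d4p3 (C.f t) * xU chevD4 d4p1 t ∈ twistedD4 K q
      rw [hx]; exact eB_mem C t
    · show xU chevD4 (chevD4.neg d4p4) (C.f (C.f t)) * xU chevD4 (chevD4.neg d4p3) (C.f t) *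
        xU chevD4 (chevD4.neg d4p1) t ∈ twistedD4 K q
      rw [n1, n3, n4]; exact hy t) (hmem g)
  let Φ : SL(2, K) →* ↥(twistedD4 K q) := φ.codRestrict _ hG
  have hup : ∀ t, φ (upM t) = eB C t := fun t => ((hval _ t).1 rfl).trans (hx t)
  have hw : φ wM = nU chevD4 d4p4 1 * nU chevD4 d4p3 1 * nU chevD4 d4p1 1 := by
    rw [wM_eq, map_mul, map_mul, (hval (upM 1) 1).1 rfl, (hval (loM (-1)) (-1)).2 rfl]
    have := R.key 1
    simpa using this
  have hwP : PermAct (φ wM) (O o1).wO := by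
    obtain ⟨s0, -, s2, s3, -⟩ := torus_tables
    have e : φ wM = nW chevD4 K [⟨3, by decide⟩, ⟨2, by decide⟩, ⟨0, by decide⟩] := by
      rw [hw, nW]
      simp only [List.map_cons, List.map_nil, List.prod_cons, List.prod_nil, mul_one, nS, s0, s2,
        s3, mul_assoc]
    rw [e]
    have := hF.permAct_nW (F := K) [⟨3, by decide⟩, ⟨2, by decide⟩, ⟨0, by decide⟩]
    rwa [show sW chevD4 [⟨3, by decide⟩, ⟨2, by decide⟩, ⟨0, by decide⟩] = (O o1).wO from
      Equiv.ext fun r => Fin.ext (by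
        rw [Orb.wO, hF.sW_val_foldr, hF.sW_val_foldr]
        exact perm_tables.1 ⟨r.val, r.isLt⟩)] at this
  have htorus : ∀ μ : Kˣ, φ (upM (μ : K) * loM (-(μ : K)⁻¹) * upM (μ : K) * wM⁻¹) =
      hT chevD4 (C.vec μ 1) := by
    intro μ
    obtain ⟨s0, s1, s2, s3, -⟩ := torus_tables
    have hhU : ∀ u : Kˣ, H u * (nU chevD4 d4p4 1 * nU chevD4 d4p3 1 * nU chevD4 d4p1 1) =
        φ (upM (u : K) * loM (-(u : K)⁻¹) * upM (u : K)) := fun u => by
      rw [map_mul, map_mul, (hval (upM (u : K)) u).1 rfl, (hval (loM _) _).2 rfl]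
      exact (R.key u).symm
    rw [map_mul, ← hhU μ, map_inv, hw, mul_inv_cancel_right, hH, hH₂]
    show hU chevD4 d4p4 ((Units.map (C.f : K →* K) (Units.map (C.f : K →* K) μ) : Kˣ) : K) *
      hU chevD4 d4p3 ((Units.map (C.f : K →* K) μ : Kˣ) : K) * hU chevD4 d4p1 (μ : K) = _
    rw [← s0, ← s2, ← s3, hF.hU_single (by rw [tables.2.1]; norm_num),
      hF.hU_single (by rw [tables.2.1]; norm_num), hF.hU_single (by rw [tables.2.1]; norm_num),
      ← hF.hT_mul, ← hF.hT_mul]
    refine hF.hT_congr fun i hi => ?_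
    have hi4 : i < 4 := hi
    interval_cases i <;> simp [Ctx.vec]
  refine ⟨Φ, hup, fun x z => ?_, ?_, fun μ => ⟨_, htorus μ⟩, ?_⟩
  · have hb := pair_tables.2.2.2.2.2.2.2.2
    show Commute (xU chevD4 23 z) (φ x)
    refine Subgroup.mem_centralizer_singleton_iff.1 ((Subgroup.closure_le
      (Subgroup.centralizer {xU chevD4 23 z})).2 ?_ (hmem x)) |>.symm
    rintro _ (⟨t, rfl⟩ | ⟨t, rfl⟩) <;> refine Subgroup.mem_centralizer_singleton_iff.2 ?_
    · exact (((C.sig.commute_xU (by decide) h4 (hb 12 (by decide)) z _).mul_right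
        (C.sig.commute_xU (by decide) h3 (hb 13 (by decide)) z _)).mul_right
        (C.sig.commute_xU (by decide) h1 (hb 18 (by decide)) z _)).symm.eq
    · simp only [n1, n3, n4]
      exact (((C.sig.commute_xU (by decide) hm4 (hb 11 (by decide)) z _).mul_right
        (C.sig.commute_xU (by decide) hm3 (hb 10 (by decide)) z _)).mul_right
        (C.sig.commute_xU (by decide) hm1 (hb 5 (by decide)) z _)).symm.eq
  · have hpos : ∀ g : ↥(twistedD4 K q), (g : GL chevD4.Idx K) ∈
        rootClosure chevD4 K ((O o1).posO DataD4.co) → ∃ t, g = Φ (upM t) := fun g hg => by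
      obtain ⟨t, ht⟩ := C.fix_p134 (C.sys.le_fix g.2) hg
      exact ⟨t, Subtype.ext (by
        show (g : GL chevD4.Idx K) = φ (upM t)
        rw [hup, eB_eq]; exact ht)⟩
    rintro g (hg | hg)
    · obtain ⟨t, rfl⟩ := hpos g hg
      exact ⟨1, t, by rw [root_true C, one_mul, inv_one, mul_one]⟩
    · obtain ⟨t, ht⟩ := hpos (Φ wM * g * (Φ wM)⁻¹) (C.sys.pos_of_neg o1 hwP hg)
      refine ⟨wM⁻¹, t, ?_⟩
      rw [root_true C, map_mul, map_mul, ← ht, inv_inv, map_inv]
      group
  · have hq := C.q_gt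
    have h8 : 4 ≤ Fintype.card K := by
      rw [C.card]; exact le_trans (by norm_num) (Nat.pow_le_pow_left hq 3)
    refine (MonoidHom.ker_eq_bot_iff Φ).1 (eq_bot_iff.2 fun g hg => ?_)
    rcases CfsgLib.Cores.normal_eq_top_or_le_center_of_isQuasisimple
        (CfsgLib.Components.SLBlock.isQuasisimple_SL (Or.inr ⟨by simp, h8⟩)) Φ.ker with h | h
    · exfalso
      have h1 : Φ (upM 1) = 1 := MonoidHom.mem_ker.1 (h ▸ Subgroup.mem_top _)
      have h2 : eB C (1 : K) = 1 := (hup 1).symm.trans (congrArg Subtype.val h1)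
      have := hF.coords_unique C.sig.hC split_coord (ts := [1, C.f 1, C.f (C.f 1)])
        (ts' := [0, 0, 0]) rfl rfl (by
          simp only [List.zip_cons_cons, List.zip_nil_left, wU, List.map_cons, List.map_nil,
            List.prod_cons, List.prod_nil, mul_one]
          rw [hF.xU_zero (by decide), hF.xU_zero (by decide), hF.xU_zero (by decide)]
          simpa [eB] using h2)
      exact one_ne_zero (List.cons.inj this).1
    · obtain ⟨c, hc2, hcg⟩ := Matrix.SpecialLinearGroup.mem_center_iff.1 (h hg)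
      rw [Fintype.card_fin] at hc2
      let μ : Kˣ := ⟨c, c, by rw [← sq]; exact hc2, by rw [← sq]; exact hc2⟩
      have hμi : (μ : K)⁻¹ = c := by
        rw [← Units.val_inv_eq_inv_val]; rfl
      have hge : g = upM (μ : K) * loM (-(μ : K)⁻¹) * upM (μ : K) * wM⁻¹ := by
        rw [eq_mul_inv_iff_mul_eq]
        refine Subtype.ext ?_
        rw [hμi]
        simp only [Matrix.SpecialLinearGroup.coe_mul, ← hcg, Matrix.scalar_apply]
        have : c * c = 1 := by rw [← sq]; exact hc2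
        ext i j
        fin_cases i <;> fin_cases j <;>
          simp [upM, loM, wM, μ, Matrix.mul_apply, Fin.sum_univ_two, this]
      have h1 : hT chevD4 (C.vec μ 1) = 1 := by
        rw [← htorus μ, ← hge]; exact congrArg Subtype.val (MonoidHom.mem_ker.1 hg)
      obtain ⟨e1, -⟩ := (hT_eq (c := C.vec μ 1) (d := fun _ => 1)).1 (by rw [h1, hF.hT_one])
      simp only [Ctx.vec, div_one] at e1
      obtain ⟨-, e2, -⟩ := (hT_eq (c := C.vec μ 1) (d := fun _ => 1)).1 (by rw [h1, hF.hT_one])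
      simp only [Ctx.vec, div_one, mul_one] at e2
      have hμ1 : μ = 1 := by
        rw [C.fu_of_sq e1.symm, C.fu_of_sq e1.symm, ← e1, one_mul] at e2
        exact e2.symm
      have hc1 : c = 1 := congrArg Units.val hμ1
      refine Subgroup.mem_bot.2 (Subtype.ext ?_)
      rw [← hcg, hc1]; simp

/-- The rank one subgroup of the long simple root. -/
theorem exists_homA : ∃ φ : SL(2, Fq C) →* ↥(twistedD4 K q),
    (∀ g ∈ C.sys.orbSet o0, ∃ (x : SL(2, Fq C)) (t : Fq C),
      g = φ (x * Cfsg.Agent.S2426.root (true, t) * x⁻¹)) ∧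
    (∀ g, (φ g : GL chevD4.Idx K) ∈ chevD4.diagonalSubgroup K →
      ∃ b : Kˣ, (φ g : GL chevD4.Idx K) = hT chevD4 (C.vec 1 b)) ∧
    Function.Injective φ := by
  have hF := DataD4.facts
  obtain ⟨φ, hφ⟩ := exists_phi K
  let ι := Matrix.SpecialLinearGroup.map (n := Fin 2) (Fq C).subtype
  let Φ : SL(2, Fq C) →* ↥(twistedD4 K q) := (φ.comp ι).codRestrict _ (phi_mem C φ hφ)
  have hup : ∀ t : Fq C, φ (ι (upM t)) = xU chevD4 d4p2 (t : K) := fun t => by
    rw [show ι (upM t) = upM (t : K) from Subtype.ext (Matrix.ext fun i j => by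
      change (Fq C).subtype (((upM t : SL(2, Fq C)) : Matrix (Fin 2) (Fin 2) (Fq C)) i j) = _
      fin_cases i <;> fin_cases j <;> simp [upM]), hφ.1]
  have hwm : ι (wM : SL(2, Fq C)) = wM := Subtype.ext (Matrix.ext fun i j => by
    change (Fq C).subtype (((wM : SL(2, Fq C)) : Matrix (Fin 2) (Fin 2) (Fq C)) i j) = _
    fin_cases i <;> fin_cases j <;> simp [wM])
  have hwP : PermAct (φ (ι wM)) (O o0).wO := by
    obtain ⟨-, s1, -⟩ := torus_tables
    have e : φ (ι wM) = nW chevD4 K [⟨1, by decide⟩] := by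
      rw [hwm, phi_wM φ hφ, nW]
      simp only [List.map_cons, List.map_nil, List.prod_cons, List.prod_nil, mul_one, nS, s1]
    rw [e]
    have := hF.permAct_nW (F := K) [⟨1, by decide⟩]
    rwa [show sW chevD4 [⟨1, by decide⟩] = (O o0).wO from
      Equiv.ext fun r => Fin.ext (by
        rw [Orb.wO, hF.sW_val_foldr, hF.sW_val_foldr]
        exact perm_tables.2.1 ⟨r.val, r.isLt⟩)] at this
  refine ⟨Φ, ?_, ?_, ?_⟩
  · have hpos : ∀ g : ↥(twistedD4 K q), (g : GL chevD4.Idx K) ∈
        rootClosure chevD4 K ((O o0).posO DataD4.co) → ∃ t, g = Φ (upM t) := fun g hg => by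
      obtain ⟨t, ht, e⟩ := C.fix_p2 (C.sys.le_fix g.2) hg
      refine ⟨⟨t, (mem_Fq C).2 ht⟩, Subtype.ext ?_⟩
      show (g : GL chevD4.Idx K) = φ (ι (upM _))
      rw [hup, e]
      simp [wU]
    rintro g (hg | hg)
    · obtain ⟨t, rfl⟩ := hpos g hg
      exact ⟨1, t, by rw [root_true C, one_mul, inv_one, mul_one]⟩
    · obtain ⟨t, ht⟩ := hpos (Φ wM * g * (Φ wM)⁻¹) (C.sys.pos_of_neg o0 hwP hg)
      refine ⟨wM⁻¹, t, ?_⟩
      rw [root_true C, map_mul, map_mul, ← ht, inv_inv, map_inv]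
      group
  · intro g hg
    change φ (ι g) ∈ chevD4.diagonalSubgroup K at hg
    obtain ⟨h01, h10⟩ := diag_of_phi_mem C φ hφ (ι g) hg
    have hd := sl2_det (ι g)
    rw [h01, zero_mul, sub_zero] at hd
    have ha : (ι g) 0 0 ≠ 0 := fun h => by simp [h] at hd
    refine ⟨Units.mk0 _ ha, phi_diag C φ hφ _ (ι g) ?_⟩
    ext i j
    fin_cases i <;> fin_cases j
    · rfl
    · exact h01
    · exact h10
    · simp only [Units.val_inv_eq_inv_val, Units.val_mk0]
      exact eq_inv_of_mul_eq_one_right hd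
  · refine (injective_iff_map_eq_one Φ).2 fun g hg => ?_
    have hg' : φ (ι g) = 1 := congrArg Subtype.val hg
    obtain ⟨h01, h10⟩ := diag_of_phi_mem C φ hφ (ι g) (by rw [hg']; exact one_mem _)
    have hd := sl2_det (ι g)
    rw [h01, zero_mul, sub_zero] at hd
    let b : Kˣ := ⟨(ι g) 0 0, (ι g) 1 1, hd, by rw [mul_comm]; exact hd⟩
    have hmat : (ι g : Matrix (Fin 2) (Fin 2) K) = !![(b : K), 0; 0, ((b⁻¹ : Kˣ) : K)] := by
      ext i j
      fin_cases i <;> fin_cases j
      exacts [rfl, h01, h10, rfl]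
    obtain ⟨e1, -⟩ := (hT_eq (c := C.vec 1 b) (d := fun _ => 1)).1 (by
      rw [← phi_diag C φ hφ b (ι g) hmat, hg', hF.hT_one])
    simp only [Ctx.vec, div_one, mul_one] at e1
    have hι : ι g = 1 := Subtype.ext (by rw [hmat, e1]; simp [Matrix.one_fin_two])
    refine Subtype.ext (Matrix.ext fun i j => Subtype.ext ?_)
    have := congrFun (congrFun (congrArg Subtype.val hι) i) j
    fin_cases i <;> fin_cases j <;> simpa [ι] using this

end CfsgLib.Chev.TwD4.Mult
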