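/-
The radical of the parabolic of the short simple root of ³D₄ as a subgroup of the group, and a
generation criterion for it.
-/
import Mathlib
import Cfsg.Agent.Lib.Recognition.Triality.Homs

set_option autoImplicit false
set_option maxRecDepth 20000
set_option maxHeartbeats 1000000

namespace CfsgLib.Chev.TwD4.Mult

open Cfsg.Lie CfsgLib.Chev.TwD4.Torus

universe v

variable {K : Type v} [Field K] [Fintype K] {q : ℕ} (C : Ctx K q)
include C

theorem single_mem {r : ℕ} (hr : r ∈ LQ) (hc : coordB chevD4 [r] = true) (hρ : parD4.rho r = r)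
    (he : parD4.eps r = 1) (s : Fq C) : xU chevD4 r (s : K) ∈ twistedD4 K q :=
  mem_G_of_fix C (xU_mem_RQ hr _) ((fix_single_f C hc hρ he _).2 ((mem_Fq C).1 s.2))

/-- The long simple root elements. -/
noncomputable def gA (s : Fq C) : ↥(twistedD4 K q) :=
  ⟨xU chevD4 14 (s : K), single_mem C (by decide) (by decide +kernel) (by decide +kernel)
    (by decide +kernel) s⟩

/-- The root elements of the other long root of the radical next to the centre. -/
noncomputable def gC22 (s : Fq C) : ↥(twistedD4 K q) :=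
  ⟨xU chevD4 22 (s : K), single_mem C (by decide) (by decide +kernel) (by decide +kernel)
    (by decide +kernel) s⟩

/-- The central root elements of the radical. -/
noncomputable def gC23 (s : Fq C) : ↥(twistedD4 K q) :=
  ⟨xU chevD4 23 (s : K), single_mem C (by decide) (by decide +kernel) (by decide +kernel)
    (by decide +kernel) s⟩

/-- The first triple. -/
noncomputable def gAB (u : K) : ↥(twistedD4 K q) :=
  ⟨eAB C u, mem_G_of_fix C (eAB_RQ C u) (eAB_fix C u)⟩

/-- The second triple. -/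
noncomputable def gA2B (w : K) : ↥(twistedD4 K q) :=
  ⟨eA2B C w, mem_G_of_fix C (eA2B_RQ C w) (eA2B_fix C w)⟩

/-- The simple triple. -/
noncomputable def gB (t : K) : ↥(twistedD4 K q) := ⟨eB C t, eB_mem C t⟩

/-- The radical inside the group. -/
noncomputable abbrev Qg (_C : Ctx K q) : Subgroup ↥(twistedD4 K q) :=
  (RQ K).subgroupOf (twistedD4 K q)

theorem gA_add (s t : Fq C) : gA C (s + t) = gA C s * gA C t :=
  Subtype.ext (DataD4.facts.xU_add (by decide) (s : K) (t : K)).symm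

theorem gC22_add (s t : Fq C) : gC22 C (s + t) = gC22 C s * gC22 C t :=
  Subtype.ext (DataD4.facts.xU_add (by decide) (s : K) (t : K)).symm

theorem gC23_add (s t : Fq C) : gC23 C (s + t) = gC23 C s * gC23 C t :=
  Subtype.ext (DataD4.facts.xU_add (by decide) (s : K) (t : K)).symm

theorem gAB_add (u u' : K) : gAB C (u + u') = gAB C u * gAB C u' := Subtype.ext (eAB_add C u u')

theorem gA2B_add (w w' : K) : gA2B C (w + w') = gA2B C w * gA2B C w' :=
  Subtype.ext (eA2B_add C w w')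

theorem gB_add (t t' : K) : gB C (t + t') = gB C t * gB C t' := Subtype.ext (eB_add C t t')

theorem map_zero_eq_one {A : Type*} [AddMonoid A] {M : Type*} [Group M] {P : A → M}
    (h : ∀ a b, P (a + b) = P a * P b) : P 0 = 1 := by
  have := h 0 0
  rwa [add_zero, left_eq_mul] at this

theorem gA_mem (s : Fq C) : gA C s ∈ Qg C := xU_mem_RQ (K := K) (r := 14) (by decide) _

theorem gC22_mem (s : Fq C) : gC22 C s ∈ Qg C := xU_mem_RQ (K := K) (r := 22) (by decide) _

theorem gC23_mem (s : Fq C) : gC23 C s ∈ Qg C := xU_mem_RQ (K := K) (r := 23) (by decide) _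

theorem gAB_mem (u : K) : gAB C u ∈ Qg C := eAB_RQ C u

theorem gA2B_mem (w : K) : gA2B C w ∈ Qg C := eA2B_RQ C w

/-- The product of five root elements. -/
noncomputable def gP (s : Fq C) (u w : K) (y z : Fq C) : ↥(twistedD4 K q) :=
  gA C s * gAB C u * gA2B C w * gC22 C y * gC23 C z

theorem gP_coe (s : Fq C) (u w : K) (y z : Fq C) : (gP C s u w y z : GL chevD4.Idx K) =
    xU chevD4 14 (s : K) * eAB C u * eA2B C w * xU chevD4 22 (y : K) * xU chevD4 23 (z : K) :=
  rfl

theorem gP_crd (s : Fq C) (u w : K) (y z : Fq C) :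
    Crd (gP C s u w y z : GL chevD4.Idx K) (crdV C (s : K) u w (y : K)) := crd_prod C _ _ _ _ _

theorem exists_gP {x : ↥(twistedD4 K q)} (hx : x ∈ Qg C) :
    ∃ (s : Fq C) (u w : K) (y z : Fq C), x = gP C s u w y z := by
  obtain ⟨s, u, w, y, z, hs, hy, hz, e⟩ := fix_decomp C hx (C.sys.le_fix x.2)
  exact ⟨⟨s, (mem_Fq C).2 hs⟩, u, w, ⟨y, (mem_Fq C).2 hy⟩, ⟨z, (mem_Fq C).2 hz⟩, Subtype.ext e⟩

theorem of_crd {x : ↥(twistedD4 K q)} {s : Fq C} {u w : K} {y : Fq C}
    (h : Crd (x : GL chevD4.Idx K) (crdV C (s : K) u w (y : K))) :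
    ∃ z, x = gP C s u w y z := by
  obtain ⟨s', u', w', y', z, rfl⟩ := exists_gP C (h.mem C)
  have e := Crd.unique C (gP_crd C s' u' w' y' z) h
  have h14 := e 14 (by decide)
  have h19 := e 19 (by decide)
  have h20 := e 20 (by decide)
  have h22 := e 22 (by decide)
  simp [crdV] at h14 h19 h20 h22
  exact ⟨z, by rw [h14, h19, h20, h22]⟩

theorem crdV_add (s s' u u' w w' y y' : K) :
    crdV C s u w y + crdV C s' u' w' y' = crdV C (s + s') (u + u') (w + w') (y + y') := by
  funext r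
  simp only [crdV, Pi.add_apply]
  split_ifs <;> simp [map_add, add_comm]

theorem gP_mul (s s' : Fq C) (u u' w w' : K) (y y' z z' : Fq C) :
    ∃ z'', gP C s u w y z * gP C s' u' w' y' z' = gP C (s + s') (u + u') (w + w') (y + y') z'' := by
  refine of_crd C ?_
  have := (gP_crd C s u w y z).mul C (gP_crd C s' u' w' y' z')
  rw [crdV_add] at this
  simpa using this

theorem comm_gA_gC22 (s y : Fq C) :
    gA C s * gC22 C y * (gA C s)⁻¹ * (gC22 C y)⁻¹ = gC23 C (s * y) :=
  Subtype.ext (by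
    simp only [Subgroup.coe_mul, Subgroup.coe_inv]
    exact comm_A_C22 C (s : K) (y : K))

theorem conj_gA (t : K) (s : Fq C) : ∃ y z : Fq C, (y : K) = -(t * C.f t * C.f (C.f t) * (s : K)) ∧
    gB C t * gA C s * (gB C t)⁻¹ =
      gP C s (-(t * (s : K))) (-(t * C.f (C.f t) * (s : K))) y z := by
  obtain ⟨z, e⟩ := conj_A C t ((mem_Fq C).1 s.2)
  have hy : (-(t * C.f t * C.f (C.f t) * (s : K))) ^ q = -(t * C.f t * C.f (C.f t) * (s : K)) := by
    rw [← C.hf, map_neg, map_mul, map_mul, map_mul, C.pow_three, C.hf (s : K), (mem_Fq C).1 s.2]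
    ring
  let y : Fq C := ⟨_, (mem_Fq C).2 hy⟩
  obtain ⟨z', e'⟩ := of_crd C (x := gB C t * gA C s * (gB C t)⁻¹) (s := s)
    (u := -(t * (s : K))) (w := -(t * C.f (C.f t) * (s : K))) (y := y) (by
      simp only [Subgroup.coe_mul, Subgroup.coe_inv]
      show Crd (eB C t * xU chevD4 14 (s : K) * (eB C t)⁻¹) _
      rw [e]
      exact crd_prod C _ _ _ _ _)
  exact ⟨y, z', rfl, e'⟩

/-- The torus elements of the rank one subgroup of the short simple root. -/
noncomputable def gT (a : Kˣ) {b : Kˣ} (hb : b ^ (q - 1) = 1) : ↥(twistedD4 K q) :=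
  ⟨hT chevD4 (C.vec a b), C.vec_mem a hb⟩

theorem f_of_pow {b : Kˣ} (hb : b ^ (q - 1) = 1) : C.f (b : K) = b :=
  congrArg Units.val (C.fu_fix hb)

theorem gT_conj (a : Kˣ) {b : Kˣ} (hb : b ^ (q - 1) = 1) :
    (∀ s s' : Fq C, (s' : K) = (b : K) * b / ((nrm C a : Kˣ) : K) * (s : K) →
      gT C a hb * gA C s * (gT C a hb)⁻¹ = gA C s') ∧
    (∀ s s' : Fq C, (s' : K) = ((nrm C a : Kˣ) : K) / b * (s : K) →
      gT C a hb * gC22 C s * (gT C a hb)⁻¹ = gC22 C s') ∧
    (∀ s s' : Fq C, (s' : K) = (b : K) * (s : K) →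
      gT C a hb * gC23 C s * (gT C a hb)⁻¹ = gC23 C s') ∧
    (∀ u, gT C a hb * gAB C u * (gT C a hb)⁻¹ =
      gAB C (((a : K) * b / (C.f a * C.f (C.f a))) * u)) ∧
    (∀ w, gT C a hb * gA2B C w * (gT C a hb)⁻¹ =
      gA2B C (((a : K) * C.f (C.f a) / C.f a) * w)) ∧
    ∀ t, gT C a hb * gB C t * (gT C a hb)⁻¹ = gB C (((a : K) * a / b) * t) := by
  obtain ⟨h14, h22, h23, hAB, hA2B, hB⟩ := torus_vals C a b
  have hf := f_of_pow C hb
  have hn : ((nrm C a : Kˣ) : K) = (a : K) * C.f a * C.f (C.f a) := rfl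
  refine ⟨fun s s' e => Subtype.ext ?_, fun s s' e => Subtype.ext ?_, fun s s' e => Subtype.ext ?_,
    fun u => Subtype.ext (hAB u hf), fun w => Subtype.ext (hA2B w hf),
    fun t => Subtype.ext (hB t hf)⟩
  · refine (h14 (s : K)).trans ?_
    rw [← hn, ← e]; rfl
  · refine (h22 (s : K)).trans ?_
    rw [← hn, ← e]; rfl
  · refine (h23 (s : K)).trans ?_
    rw [← e]; rfl

theorem exists_gen : ∃ a : Kˣ, orderOf a = q ^ 3 - 1 := by
  obtain ⟨a, ha⟩ := IsCyclic.exists_generator (α := Kˣ)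
  refine ⟨a, ?_⟩
  rw [orderOf_eq_card_of_forall_mem_zpowers ha, Nat.card_units, Nat.card_eq_fintype_card, C.card]

theorem cube_sub_one : q ^ 3 - 1 = (q - 1) * (q ^ 2 + q + 1) := by
  obtain ⟨k, rfl⟩ : ∃ k, q = k + 1 := ⟨q - 1, by have := C.q_gt; omega⟩
  have : (k + 1) ^ 3 = k * ((k + 1) ^ 2 + (k + 1) + 1) + 1 := by ring
  rw [this, Nat.add_sub_cancel, Nat.add_sub_cancel]

/-- An element of norm one and of largest order. -/
theorem exists_norm_one :
    ∃ μ : Kˣ, nrm C μ = 1 ∧ orderOf μ = q ^ 2 + q + 1 ∧ (q ^ 2 + q + 1).Coprime 2 := by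
  obtain ⟨a, ha⟩ := exists_gen C
  have hq := C.q_gt
  refine ⟨a ^ (q - 1), ?_, ?_, ?_⟩
  · rw [nrm_eq_pow, ← pow_mul, ← cube_sub_one C, ← ha, pow_orderOf_eq_one]
  · rw [orderOf_pow' a (by omega), ha, cube_sub_one C, Nat.gcd_mul_right_left,
      Nat.mul_div_cancel_left _ (by omega)]
  · rw [Nat.coprime_two_right, Nat.odd_iff, Nat.add_mod, Nat.add_mod (q ^ 2), Nat.pow_mod]
    rcases Nat.mod_two_eq_zero_or_one q with h | h <;> rw [h] <;> rfl

theorem exists_norm (s : Fq C) (hs : (s : K) ≠ 0) : ∃ μ : Kˣ, ((nrm C μ : Kˣ) : K) = (s : K) := by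
  obtain ⟨a, ha⟩ := exists_gen C
  have hq := C.q_gt
  have hgen : Units.mk0 (s : K) hs ∈ Subgroup.zpowers a := by
    have : Subgroup.zpowers a = ⊤ := Subgroup.eq_top_of_card_eq _ (by
      rw [Nat.card_zpowers, ha, Nat.card_units, Nat.card_eq_fintype_card, C.card])
    rw [this]; trivial
  obtain ⟨k, hk⟩ := (mem_powers_iff_mem_zpowers.2 hgen : _ ∈ Submonoid.powers a)
  have hsq : Units.mk0 (s : K) hs ^ (q - 1) = 1 := by
    refine Units.ext ?_
    rw [Units.val_pow_eq_pow_val, Units.val_mk0, Units.val_one]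
    refine mul_right_cancel₀ hs ?_
    rw [← pow_succ, Nat.sub_add_cancel hq.le, one_mul]
    exact (mem_Fq C).1 s.2
  simp only at hk
  rw [← hk, ← pow_mul, ← orderOf_dvd_iff_pow_eq_one, ha, cube_sub_one C, mul_comm k] at hsq
  obtain ⟨m, rfl⟩ := Nat.dvd_of_mul_dvd_mul_left (by omega) hsq
  refine ⟨a ^ m, ?_⟩
  rw [nrm_eq_pow, ← pow_mul, mul_comm m, hk, Units.val_mk0]

/-- An additive subgroup of the field stable under a scalar of order `q² + q + 1` is trivial or
everything. -/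
theorem stable_top (W : AddSubgroup K) (χ : Kˣ) (hχ : orderOf χ = q ^ 2 + q + 1)
    (hW : ∀ w ∈ W, (χ : K) * w ∈ W) {w₀ : K} (h0 : w₀ ∈ W) (hne : w₀ ≠ 0) : ∀ w, w ∈ W := by
  classical
  let St : Subring K :=
    { carrier := {r | ∀ w ∈ W, r * w ∈ W}
      mul_mem' := fun {a b} ha hb w hw => by rw [mul_assoc]; exact ha _ (hb w hw)
      one_mem' := fun w hw => by rwa [one_mul]
      add_mem' := fun {a b} ha hb w hw => by rw [add_mul]; exact W.add_mem (ha w hw) (hb w hw)
      zero_mem' := fun w _ => by rw [zero_mul]; exact W.zero_mem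
      neg_mem' := fun {a} ha w hw => by rw [neg_mul]; exact W.neg_mem (ha w hw) }
  let S : Subfield K :=
    { St with
      inv_mem' := fun x hx => by
        rcases eq_or_ne x 0 with rfl | h
        · rw [inv_zero]; exact St.zero_mem
        · have h1 : x⁻¹ = x ^ (Fintype.card K - 2) := by
            refine inv_eq_of_mul_eq_one_right ?_
            rw [← pow_succ', show Fintype.card K - 2 + 1 = Fintype.card K - 1 by
              have := Fintype.one_lt_card (α := K); omega]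
            exact FiniteField.pow_card_sub_one_eq_one x h
          rw [h1]; exact St.pow_mem hx _ }
  have hcard : q ^ 2 + q + 2 ≤ Nat.card S := by
    let g : Option (Fin (q ^ 2 + q + 1)) → S := fun o =>
      o.elim 0 fun i => ⟨((χ ^ (i : ℕ) : Kˣ) : K), by
        rw [Units.val_pow_eq_pow_val]; exact S.pow_mem (show (χ : K) ∈ S from hW) _⟩
    have hg : Function.Injective g := by
      rintro (_ | i) (_ | j) e
      · rfl
      · exact absurd (congrArg Subtype.val e).symm (Units.ne_zero (χ ^ (j : ℕ)))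
      · exact absurd (congrArg Subtype.val e) (Units.ne_zero (χ ^ (i : ℕ)))
      · have := pow_inj_mod.1 (Units.ext (congrArg Subtype.val e) : χ ^ (i : ℕ) = χ ^ (j : ℕ))
        rw [hχ, Nat.mod_eq_of_lt i.isLt, Nat.mod_eq_of_lt j.isLt] at this
        exact congrArg some (Fin.ext this)
    have := Nat.card_le_card_of_injective g hg
    simp only [Nat.card_eq_fintype_card, Fintype.card_option, Fintype.card_fin] at this ⊢
    omega
  have htop : ∀ r : K, r ∈ S := by
    have h1 : Nat.card S ^ Module.finrank S K = q ^ 3 := by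
      rw [← Module.natCard_eq_pow_finrank, Nat.card_eq_fintype_card, C.card]
    by_contra hcon
    push Not at hcon
    obtain ⟨r, hr⟩ := hcon
    have h2 : 2 ≤ Module.finrank S K := by
      by_contra hlt
      have hpos : 0 < Module.finrank S K := Module.finrank_pos
      have h3 : Module.finrank S K = 1 := by omega
      rw [h3, pow_one] at h1
      have h4 : Nat.card S = Nat.card K := by rw [h1, Nat.card_eq_fintype_card, C.card]
      have hbij : Function.Bijective (Subtype.val : S → K) :=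
        (Nat.bijective_iff_injective_and_card _).2 ⟨Subtype.val_injective, h4⟩
      obtain ⟨⟨x, hx⟩, rfl⟩ := hbij.2 r
      exact hr hx
    have h4 : Nat.card S ^ 2 ≤ q ^ 3 := h1 ▸ Nat.pow_le_pow_right (by omega) h2
    have h5 : (q ^ 2) ^ 2 < (q ^ 2 + q + 2) ^ 2 := Nat.pow_lt_pow_left (by omega) (by norm_num)
    have h6 := Nat.pow_le_pow_left hcard 2
    have h7 : q ^ 3 ≤ (q ^ 2) ^ 2 := by
      rw [← pow_mul]; exact Nat.pow_le_pow_right (by have := C.q_gt; omega) (by norm_num)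
    omega
  intro w
  have := htop (w * w₀⁻¹) w₀ h0
  rwa [inv_mul_cancel_right₀ hne] at this

/-- Generation of the radical. -/
theorem Qg_le (M : Subgroup ↥(twistedD4 K q)) (hA : ∀ s, gA C s ∈ M) (hZ : ∀ z, gC23 C z ∈ M)
    (hh : ∀ (μ : Kˣ), nrm C μ = 1 → ∀ x ∈ M, gT C μ (one_pow (q - 1)) * x *
      (gT C μ (one_pow (q - 1)))⁻¹ ∈ M)
    (hB : ∀ t s, gB C t * gA C s * (gB C t)⁻¹ ∈ M) : Qg C ≤ M := by
  obtain ⟨μ, hμ, hord, hodd⟩ := exists_norm_one C
  have hfμ : ((μ : K) * C.f μ * C.f (C.f μ)) = 1 := congrArg Units.val hμ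
  have hne1 : C.f (μ : K) ≠ 0 := (map_ne_zero _).2 μ.ne_zero
  have hne2 : C.f (C.f (μ : K)) ≠ 0 := (map_ne_zero _).2 hne1
  set h := gT C μ (one_pow (q - 1)) with hhdef
  obtain ⟨tA, t22, t23, tAB, tA2B, -⟩ := gT_conj C μ (one_pow (q - 1))
  have hA2 : ∀ w, h * gA2B C w * h⁻¹ =
      gA2B C ((((C.fu μ)⁻¹ ^ 2 : Kˣ) : K) * w) := fun w => by
    rw [tA2B]
    congr 2
    rw [Units.val_pow_eq_pow_val, Units.val_inv_eq_inv_val]
    show _ = ((C.f μ))⁻¹ ^ 2
    field_simp
    linear_combination hfμ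
  have hA1 : ∀ u, h * gAB C u * h⁻¹ = gAB C (((μ ^ 2 : Kˣ) : K) * u) := fun u => by
    rw [tAB]
    congr 2
    rw [Units.val_pow_eq_pow_val, Units.val_one, mul_one]
    field_simp
    linear_combination -hfμ
  have h22 : ∀ y, h * gC22 C y * h⁻¹ = gC22 C y := fun y => t22 y y (by
    rw [hμ, Units.val_one, div_one, one_mul])
  have h23 : ∀ z, h * gC23 C z * h⁻¹ = gC23 C z := fun z => t23 z z (by rw [Units.val_one, one_mul])
  have hordf : orderOf (C.fu μ) = q ^ 2 + q + 1 := by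
    rw [orderOf_injective C.fu ?_ μ, hord]
    intro a b e
    exact Units.ext (C.f.injective (congrArg Units.val e))
  have hord1 : orderOf (μ ^ 2) = q ^ 2 + q + 1 := by rw [Nat.Coprime.orderOf_pow (hord ▸ hodd), hord]
  have hord2 : orderOf ((C.fu μ)⁻¹ ^ 2) = q ^ 2 + q + 1 := by
    rw [Nat.Coprime.orderOf_pow (by rw [orderOf_inv, hordf]; exact hodd), orderOf_inv, hordf]
  -- membership modulo the centre
  let E : K → K → Fq C → ↥(twistedD4 K q) := fun u w y => gP C 0 u w y 0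
  have hEz : ∀ u w y z, gP C 0 u w y z ∈ M → E u w y ∈ M := fun u w y z hm => by
    have e : gP C 0 u w y z = E u w y * gC23 C z := by
      simp only [E, gP, mul_assoc]
      rw [← gC23_add, zero_add]
    rw [e] at hm
    exact (Subgroup.mul_mem_cancel_right M (hZ z)).1 hm
  have hEadd : ∀ u w y u' w' y', E u w y ∈ M → E u' w' y' ∈ M → E (u + u') (w + w') (y + y') ∈ M :=
    fun u w y u' w' y' h1 h2 => by
      obtain ⟨z, e⟩ := gP_mul C 0 0 u u' w w' y y' 0 0
      have := mul_mem h1 h2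
      rw [show E u w y * E u' w' y' = _ from e, add_zero] at this
      exact hEz _ _ _ _ this
  have hEneg : ∀ u w y, E u w y ∈ M → E (-u) (-w) (-y) ∈ M := fun u w y h1 => by
    obtain ⟨z, e⟩ := gP_mul C 0 0 u (-u) w (-w) y (-y) 0 0
    rw [add_zero, add_neg_cancel, add_neg_cancel, add_neg_cancel] at e
    have hz : gP C 0 0 0 0 z ∈ M := by
      simp only [gP, map_zero_eq_one C (gA_add C), map_zero_eq_one C (gAB_add C),
        map_zero_eq_one C (gA2B_add C), map_zero_eq_one C (gC22_add C), one_mul]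
      exact hZ z
    rw [← e] at hz
    exact (Subgroup.mul_mem_cancel_left M h1).1 hz
  have hEh : ∀ u w y, E u w y ∈ M →
      E (((μ ^ 2 : Kˣ) : K) * u) ((((C.fu μ)⁻¹ ^ 2 : Kˣ) : K) * w) y ∈ M := fun u w y h1 => by
    have := hh μ hμ _ h1
    have e : h * E u w y * h⁻¹ = (h * gA C 0 * h⁻¹) * (h * gAB C u * h⁻¹) * (h * gA2B C w * h⁻¹) *
        (h * gC22 C y * h⁻¹) * (h * gC23 C 0 * h⁻¹) := by simp only [E, gP]; group
    rw [← hhdef, e, hA1, hA2, h22, h23, tA 0 0 (by simp)] at this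
    exact this
  have hD : ∀ (t : K) (s : Fq C), ∃ y : Fq C, (y : K) = -(t * C.f t * C.f (C.f t) * (s : K)) ∧
      E (-(t * (s : K))) (-(t * C.f (C.f t) * (s : K))) y ∈ M := by
    intro t s
    obtain ⟨y, z, hy, e⟩ := conj_gA C t s
    have h1 := hB t s
    rw [e] at h1
    refine ⟨y, hy, hEz _ _ _ z ?_⟩
    have e2 : gP C s (-(t * (s : K))) (-(t * C.f (C.f t) * (s : K))) y z =
        gA C s * gP C 0 (-(t * (s : K))) (-(t * C.f (C.f t) * (s : K))) y z := by
      simp only [gP, map_zero_eq_one C (gA_add C), one_mul, mul_assoc]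
    rw [e2] at h1
    exact (Subgroup.mul_mem_cancel_left M (hA s)).1 h1
  -- the second triple
  let W : AddSubgroup K :=
    { carrier := {w | E 0 w 0 ∈ M}
      zero_mem' := by
        show gP C 0 0 0 0 0 ∈ M
        simp only [gP, map_zero_eq_one C (gA_add C), map_zero_eq_one C (gAB_add C),
          map_zero_eq_one C (gA2B_add C), map_zero_eq_one C (gC22_add C), one_mul]
        exact hZ 0
      add_mem' := fun {a b} ha hb => by simpa using hEadd 0 a 0 0 b 0 ha hb
      neg_mem' := fun {a} ha => by simpa using hEneg 0 a 0 ha }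
  obtain ⟨t₀, ht₀⟩ : ∃ t : K, t + C.f (C.f t) ≠ 0 := by
    by_contra hcon
    push Not at hcon
    have h2 : (2 : K) = 0 := by have := hcon 1; rwa [map_one, map_one, one_add_one_eq_two] at this
    obtain ⟨a, ha⟩ := exists_gen C
    have h3 : C.fu (C.fu a) = a := Units.ext (by
      show C.f (C.f (a : K)) = a
      linear_combination hcon (a : K) - (a : K) * h2)
    have h4 : a ^ (q ^ 2) = a ^ 1 := by
      rw [sq, pow_mul, ← fu_eq_pow, ← fu_eq_pow, h3, pow_one]
    have h5 := pow_inj_mod.1 h4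
    have hq := C.q_gt
    have h6 : q ^ 2 < q ^ 3 - 1 := by
      have : q ^ 2 * 2 ≤ q ^ 3 := by
        rw [pow_succ q 2]; exact Nat.mul_le_mul_left _ hq
      have : 4 ≤ q ^ 2 := by nlinarith
      omega
    have h7 : 1 ≤ q ^ 2 := Nat.one_le_pow _ _ (by omega)
    rw [ha, Nat.mod_eq_of_lt h6, Nat.mod_eq_of_lt (a := 1) (by omega)] at h5
    nlinarith
  have hW : ∀ w, w ∈ W := by
    obtain ⟨y₁, -, h1⟩ := hD (t₀ + 1) 1
    obtain ⟨y₂, -, h2⟩ := hD t₀ 1
    obtain ⟨y₃, -, h3⟩ := hD 1 1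
    have h4 := hEadd _ _ _ _ _ _ h1 (hEneg _ _ _ (hEadd _ _ _ _ _ _ h2 h3))
    set w₁ : K := -(t₀ + C.f (C.f t₀)) with hw₁
    set y : Fq C := y₁ + -(y₂ + y₃)
    have h5 : E 0 w₁ y ∈ M := by
      convert h4 using 2
      · simp; ring
      · simp [hw₁]; ring
    have h6 := hEh _ _ _ h5
    rw [mul_zero] at h6
    set χ := (C.fu μ)⁻¹ ^ 2
    have h7 := hEadd _ _ _ _ _ _ h6 (hEneg _ _ _ h5)
    rw [neg_zero, add_zero, add_neg_cancel] at h7
    refine stable_top C W χ hord2 (fun w hw => ?_) (w₀ := (χ : K) * w₁ + -w₁) h7 ?_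
    · show E 0 ((χ : K) * w) 0 ∈ M
      have := hEh _ _ _ hw
      rwa [mul_zero] at this
    · intro e
      have hw1 : w₁ ≠ 0 := neg_ne_zero.2 ht₀
      have e1 : (χ : K) = 1 := mul_right_cancel₀ hw1 (by linear_combination e)
      have : χ = 1 := Units.ext e1
      rw [← orderOf_eq_one_iff, hord2] at this
      have := C.q_gt
      omega
  -- the first triple
  have hU : ∀ u, E u 0 0 ∈ M := by
    intro u
    set χ := μ ^ 2
    have hχ : (χ : K) - 1 ≠ 0 := fun e => by
      have : χ = 1 := Units.ext (sub_eq_zero.1 e)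
      rw [← orderOf_eq_one_iff, hord1] at this
      have := C.q_gt
      omega
    set t := -(u / ((χ : K) - 1))
    obtain ⟨y, -, h1⟩ := hD t 1
    have h2 : E (-t) 0 y ∈ M := by
      have := hEadd _ _ _ _ _ _ h1 (hW (t * C.f (C.f t)))
      simpa using this
    have h3 := hEadd _ _ _ _ _ _ (hEh _ _ _ h2) (hEneg _ _ _ h2)
    convert h3 using 2
    · simp only [t, _root_.neg_neg]
      field_simp
      ring
    · simp
    · simp
  have hY : ∀ y, E 0 0 y ∈ M := by
    intro y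
    obtain ⟨y', hy', h1⟩ := hD 1 (-y)
    obtain rfl : y' = y := Subtype.ext (by simpa using hy')
    have h2 := hEadd _ _ _ _ _ _ h1 (hEadd _ _ _ _ _ _
      (hU (1 * ((-y' : Fq C) : K))) (hW (1 * C.f (C.f 1) * ((-y' : Fq C) : K))))
    simpa using h2
  intro x hx
  obtain ⟨s, u, w, y, z, rfl⟩ := exists_gP C hx
  have e0 : ∀ u, E u 0 0 = gAB C u := fun u => by
    simp [E, gP, map_zero_eq_one C (gA_add C), map_zero_eq_one C (gA2B_add C),
      map_zero_eq_one C (gC22_add C), map_zero_eq_one C (gC23_add C)]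
  have e1 : ∀ w, E 0 w 0 = gA2B C w := fun w => by
    simp [E, gP, map_zero_eq_one C (gA_add C), map_zero_eq_one C (gAB_add C),
      map_zero_eq_one C (gC22_add C), map_zero_eq_one C (gC23_add C)]
  have e2 : ∀ y, E 0 0 y = gC22 C y := fun y => by
    simp [E, gP, map_zero_eq_one C (gA_add C), map_zero_eq_one C (gAB_add C),
      map_zero_eq_one C (gA2B_add C), map_zero_eq_one C (gC23_add C)]
  exact mul_mem (mul_mem (mul_mem (mul_mem (hA s) (e0 u ▸ hU u))
    (e1 w ▸ (hW w : E 0 w 0 ∈ M))) (e2 y ▸ hY y)) (hZ z)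

end CfsgLib.Chev.TwD4.Mult
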