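/-
The preimage of the maximal unipotent subgroup of ³D₄ in a central extension splits.
-/
import Mathlib
import Cfsg.Agent.Lib.Recognition.Triality.Gen
import Cfsg.Agent.Lib.Recognition.CoverLayers
import Cfsg.Agent.Lib.Known.SL2Lift
import Cfsg.Agent.Lib.Schur.Trivial
import Cfsg.Agent.Lib.Classical.SmallIso.PSL2

set_option autoImplicit false
set_option maxRecDepth 20000
set_option maxHeartbeats 2000000

namespace CfsgLib.Chev.TwD4.Mult

open Cfsg.Lie CfsgLib.Chev.TwD4.Torus CfsgLib.Recognition.CoverLayers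
open scoped MatrixGroups

universe v

theorem split_tables : ((O o1).word.map Fin.val).foldr (fun i x => chevD4.reflectRoot i x) 23 = 23 ∧
    coordB chevD4 [18, 13, 12] = true ∧ chkPosList DataD4.tab [0, 2, 3] [18, 13, 12] = true := by
  decide +kernel

variable {K : Type v} [Field K] [Fintype K] {q : ℕ} (C : Ctx K q)
include C

theorem RQ_eq_radical :
    RQ K = chevD4.unipotentRadical K (O o1).set := by
  have hn := lq_tables.2.2.2.2.2.1
  rw [DataD4.facts.radical_eq]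
  refine rootClosure_congr fun r hr => ?_
  have h1 := posO_iff_list DataD4.chk_arrays (p := ([0, 2, 3], [0, 2, 3])) split_tables.2.2 r hr
  have h2 : (12 ≤ r ∧ r ∉ [18, 13, 12]) ↔ r ∈ LQ := radical_roots.1 ⟨r, by omega⟩
  refine ⟨fun h => ?_, fun h => h2.1 ⟨by omega, fun hl => h.2 (h1.2 hl).2⟩⟩
  have h3 := h2.2 h
  exact ⟨by omega, fun hI => h3.2 (h1.1 ⟨by omega, hI⟩)⟩

/-- Elements of the Borel subgroup normalise the radical. -/
theorem conj_Qg {g x : ↥(twistedD4 K q)} (hg : (g : GL chevD4.Idx K) ∈ chevD4.borelSubgroup K)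
    (hx : x ∈ Qg C) : g * x * g⁻¹ ∈ Qg C := by
  show (g : GL chevD4.Idx K) * x * (g : GL chevD4.Idx K)⁻¹ ∈ RQ K
  have hx' : (x : GL chevD4.Idx K) ∈ RQ K := hx
  rw [RQ_eq_radical C] at hx' ⊢
  exact (Subgroup.mem_normalizer_iff.1 (DataD4.facts.parabolic_le_normalizer C.sig.hC _
    (show (g : GL chevD4.Idx K) ∈ chevD4.parabolicSubgroup K _ from Subgroup.mem_sup_left hg)) _).1 hx'

theorem gB_borel (t : K) : (gB C t : GL chevD4.Idx K) ∈ chevD4.borelSubgroup K :=
  DataD4.facts.pos_le_borel (mul_mem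
    (xU_mem_rootClosure (P := (chevD4.nroots / 2 ≤ ·)) (by decide) (by decide +kernel) _)
    (mul_mem (xU_mem_rootClosure (P := (chevD4.nroots / 2 ≤ ·)) (by decide) (by decide +kernel) _)
      (xU_mem_rootClosure (P := (chevD4.nroots / 2 ≤ ·)) (by decide) (by decide +kernel) _)))

theorem gT_borel (a : Kˣ) {b : Kˣ} (hb : b ^ (q - 1) = 1) :
    (gT C a hb : GL chevD4.Idx K) ∈ chevD4.borelSubgroup K :=
  DataD4.facts.diagonal_le_borel (C.diag_mem a hb).1

theorem gB_cap {t : K} (h : gB C t ∈ Qg C) : t = 0 := by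
  have hF := DataD4.facts
  have h' : eB C t ∈ RQ K := h
  rw [RQ_eq_radical C] at h'
  have hlev : eB C t ∈ chevD4.leviSubgroup K (O o1).set := by
    rw [hF.levi_eq]
    have hl : eB C t ∈ rootClosure chevD4 K (· ∈ [18, 13, 12]) :=
      mul_mem (xU_mem_rootClosure (P := (· ∈ [18, 13, 12])) (by decide) (by decide) _)
        (mul_mem (xU_mem_rootClosure (P := (· ∈ [18, 13, 12])) (by decide) (by decide) _)
          (xU_mem_rootClosure (P := (· ∈ [18, 13, 12])) (by decide) (by decide) _))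
    exact Subgroup.mem_sup_right (rootClosure_mono (fun r hr h =>
      ((posO_iff_list DataD4.chk_arrays (p := ([0, 2, 3], [0, 2, 3])) split_tables.2.2 r hr).2 h).2)
      hl)
  have h1 : eB C t ∈ chevD4.unipotentRadical K (O o1).set ⊓ chevD4.leviSubgroup K (O o1).set :=
    ⟨h', hlev⟩
  rw [hF.radical_inf_levi _, Subgroup.mem_bot] at h1
  have := hF.coords_unique C.sig.hC split_tables.2.1 (ts := [t, C.f t, C.f (C.f t)]) (ts' := [0, 0, 0])
    rfl rfl (by
      simp only [List.zip_cons_cons, List.zip_nil_left, wU, List.map_cons, List.map_nil,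
        List.prod_cons, List.prod_nil, mul_one]
      rw [hF.xU_zero (by decide), hF.xU_zero (by decide), hF.xU_zero (by decide)]
      simpa [eB] using h1)
  exact (List.cons.inj this).1

theorem crdV_neg (s u w y : K) : -crdV C s u w y = crdV C (-s) (-u) (-w) (-y) := by
  funext r
  simp only [crdV, Pi.neg_apply]
  split_ifs <;> simp

theorem crdV_zero : crdV C 0 0 0 0 = 0 := by
  funext r
  simp only [crdV, Pi.zero_apply]
  split_ifs <;> simp

theorem gP_zero (z : Fq C) : gP C 0 0 0 0 z = gC23 C z := by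
  simp [gP, map_zero_eq_one C (gA_add C), map_zero_eq_one C (gAB_add C),
    map_zero_eq_one C (gA2B_add C), map_zero_eq_one C (gC22_add C)]

theorem of_crd_zero {x : ↥(twistedD4 K q)} (h : Crd (x : GL chevD4.Idx K) (0 : ℕ → K)) :
    ∃ z, x = gC23 C z := by
  rw [← crdV_zero C] at h
  obtain ⟨z, rfl⟩ := of_crd C (s := 0) (u := 0) (w := 0) (y := 0) (by simpa using h)
  exact ⟨z, gP_zero C z⟩

theorem card_Qg_ge : q ^ 9 ≤ Nat.card (Qg C) := by
  classical
  obtain ⟨-, -, -, -, -, -, -, -, -, -, -, -, -, -, -, -, -, -, -, -, h23⟩ := sigma_tables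
  let F : Fq C × K × K × Fq C × Fq C → Qg C := fun p =>
    ⟨gP C p.1 p.2.1 p.2.2.1 p.2.2.2.1 p.2.2.2.2, (gP_crd C _ _ _ _ _).mem C⟩
  have hinj : Function.Injective F := by
    rintro ⟨a, u, w, y, z⟩ ⟨a', u', w', y', z'⟩ e
    have e' : gP C a u w y z = gP C a' u' w' y' z' := congrArg Subtype.val e
    have h1 := gP_crd C a u w y z
    rw [e'] at h1
    have e2 := Crd.unique C h1 (gP_crd C a' u' w' y' z')
    have a14 := e2 14 (by decide)
    have a19 := e2 19 (by decide)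
    have a20 := e2 20 (by decide)
    have a22 := e2 22 (by decide)
    simp only [crdV, if_pos rfl, if_neg (show ¬ (19 : ℕ) = 14 by decide),
      if_neg (show ¬ (20 : ℕ) = 14 by decide), if_neg (show ¬ (20 : ℕ) = 19 by decide),
      if_neg (show ¬ (20 : ℕ) = 16 by decide), if_neg (show ¬ (20 : ℕ) = 15 by decide),
      if_neg (show ¬ (22 : ℕ) = 14 by decide), if_neg (show ¬ (22 : ℕ) = 19 by decide),
      if_neg (show ¬ (22 : ℕ) = 16 by decide), if_neg (show ¬ (22 : ℕ) = 15 by decide),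
      if_neg (show ¬ (22 : ℕ) = 20 by decide), if_neg (show ¬ (22 : ℕ) = 21 by decide),
      if_neg (show ¬ (22 : ℕ) = 17 by decide), if_true, ↓reduceIte] at a14 a19 a20 a22
    obtain rfl := Subtype.ext a14
    obtain rfl := Subtype.ext a22
    subst a19 a20
    have e3 : gC23 C z = gC23 C z' := by
      rw [gP, gP] at e'
      exact mul_left_cancel e'
    have h3 : wU chevD4 ([23].zip [(z : K)]) = wU chevD4 ([23].zip [(z' : K)]) := by
      simpa [wU, gC23] using congrArg Subtype.val e3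
    have := DataD4.facts.coords_unique C.sig.hC h23 (ts := [(z : K)]) (ts' := [(z' : K)]) rfl rfl h3
    rw [show z = z' from Subtype.ext (List.cons.inj this).1]
  haveI : Fintype (Fq C) := Fintype.ofFinite _
  refine le_trans (le_of_eq ?_) (Nat.card_le_card_of_injective F hinj)
  rw [Nat.card_prod, Nat.card_prod, Nat.card_prod, Nat.card_prod,
    Nat.card_eq_fintype_card (α := Fq C), card_Fq C, Nat.card_eq_fintype_card (α := K), C.card]
  ring

theorem comm_Qg {x y : ↥(twistedD4 K q)} (hx : x ∈ Qg C) (hy : y ∈ Qg C) :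
    ∃ z, x * y * x⁻¹ * y⁻¹ = gC23 C z := by
  obtain ⟨v, hv⟩ := Crd.exists C (g := (x : GL chevD4.Idx K)) hx
  obtain ⟨w, hw⟩ := Crd.exists C (g := (y : GL chevD4.Idx K)) hy
  refine of_crd_zero C ?_
  simp only [Subgroup.coe_mul, Subgroup.coe_inv]
  have := ((hv.mul C hw).mul C (hv.inv C)).mul C (hw.inv C)
  rwa [show v + w + -v + -w = (0 : ℕ → K) by abel] at this

theorem perm_single {n : ↥(twistedD4 K q)} {w : Equiv.Perm (Fin chevD4.nroots)}
    (hn : PermAct (n : GL chevD4.Idx K) w) {r r' : ℕ} (hr : r < chevD4.nroots)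
    (hw : (w ⟨r, hr⟩).val = r') (hc : coordB chevD4 [r'] = true) (hρ : parD4.rho r' = r')
    (he : parD4.eps r' = 1) {s : Fq C} {g : ↥(twistedD4 K q)}
    (hg : (g : GL chevD4.Idx K) = xU chevD4 r (s : K)) :
    ∃ s' : Fq C, ((n * g * n⁻¹ : ↥(twistedD4 K q)) : GL chevD4.Idx K) = xU chevD4 r' (s' : K) := by
  obtain ⟨c, -, hconj, -⟩ := hn ⟨r, hr⟩
  have e : ((n * g * n⁻¹ : ↥(twistedD4 K q)) : GL chevD4.Idx K) = xU chevD4 r' (c * (s : K)) := by
    simp only [Subgroup.coe_mul, Subgroup.coe_inv, hg]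
    rw [hconj, hw]
  refine ⟨⟨c * (s : K), (mem_Fq C).2 ((fix_single_f C hc hρ he _).1 ?_)⟩, e⟩
  rw [← e]
  exact C.sys.le_fix (n * g * n⁻¹).2

/-- The lift of the centre of the radical and the facts about commutators of lifts. -/
structure RadData {Γ : Type*} [Group Γ] (π : Γ →* ↥(twistedD4 K q)) : Type _ where
  s : SL(2, K) →* Γ
  φ0 : Fq C → Γ
  hπX : ∀ t, π (s (upM t)) = gB C t
  hφ0π : ∀ z, π (φ0 z) = gC23 C z
  hφ0add : ∀ z z', φ0 (z + z') = φ0 z * φ0 z'
  hfix : ∀ g z, (π g ∈ Qg C ∨ ∃ x, π (s x) = π g) → g * φ0 z * g⁻¹ = φ0 z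
  hcm : ∀ g y, π g ∈ Qg C → π y ∈ Qg C → ∃ z, cm g y = φ0 z
  hψ : ∀ (u v : Γ) (a y : Fq C), π u = gA C a → π v = gC22 C y → cm u v = φ0 (a * y)
  hn : ∀ a, ∃ (n : Γ) (z : Fq C), π (n * φ0 z * n⁻¹) = gA C a

/-- The data exist. -/
theorem exists_data {Γ : Type*} [Group Γ] [Finite Γ] (π : Γ →* ↥(twistedD4 K q))
    (hsurj : Function.Surjective π) (hc : π.ker ≤ Subgroup.center Γ) :
    Nonempty (RadData C π) := by
  classical
  obtain ⟨φ, hφB, hφ23, -, hφT, -⟩ := exists_homB C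
  have hφB' : ∀ t, φ (upM t) = gB C t := fun t => Subtype.ext (hφB t)
  have hq := C.q_gt
  have hq3 : 8 ≤ Fintype.card K := by
    rw [C.card]; exact le_trans (by norm_num) (Nat.pow_le_pow_left hq 3)
  have hq9 : Fintype.card K ≠ 9 := by
    rw [C.card]
    rcases eq_or_ne q 2 with rfl | h
    · norm_num
    · have := Nat.pow_le_pow_left (show 3 ≤ q by omega) 3
      omega
  obtain ⟨s, hs⟩ := CfsgLib.Known.SL2Lift.exists_lift (by omega) hq9 (by omega) π hsurj hc φ
  have hπs : ∀ x, π (s x) = φ x := fun x => DFunLike.congr_fun hs x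
  choose L hL using hsurj
  -- commutators of lifts
  let c : ↥(twistedD4 K q) → ↥(twistedD4 K q) → Γ := fun x y => cm (L x) (L y)
  have cc : ∀ {u v x y}, π u = x → π v = y → cm u v = c x y := fun eu ev =>
    cm_congr hc (eu.trans (hL _).symm) (ev.trans (hL _).symm)
  have cpi : ∀ x y, π (c x y) = x * y * x⁻¹ * y⁻¹ := fun x y => by
    simp only [c, cm, map_mul, map_inv, hL]
  have cker : ∀ x y, x * y = y * x → c x y ∈ π.ker := fun x y h => by
    rw [MonoidHom.mem_ker, cpi, h]; group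
  have kcomm : ∀ {z}, z ∈ π.ker → ∀ g, g * z = z * g := fun hz g => mem_comm hc hz g
  have cconj : ∀ g x y, g * c x y * g⁻¹ = c (π g * x * (π g)⁻¹) (π g * y * (π g)⁻¹) := fun g x y => by
    rw [← cc (u := g * L x * g⁻¹) (v := g * L y * g⁻¹) (x := π g * x * (π g)⁻¹)
      (y := π g * y * (π g)⁻¹) (by simp [hL]) (by simp [hL])]
    simp only [c, cm]; group
  have csymm : ∀ x y, c y x = (c x y)⁻¹ := fun x y => by simp only [c, cm]; group
  have c1 : ∀ x, c x 1 = 1 := fun x => by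
    rw [← cc (u := L x) (v := (1 : Γ)) (hL x) (map_one π)]; simp [cm]
  have cmulR : ∀ x y y', c x (y * y') = c x y * (L y * c x y' * (L y)⁻¹) := fun x y y' => by
    rw [← cc (u := L x) (v := L y * L y') (hL x) (by rw [map_mul, hL, hL])]
    simp only [c, cm]; group
  have cmulK : ∀ x y y', c x y' ∈ π.ker → c x (y * y') = c x y * c x y' := fun x y y' h => by
    rw [cmulR, kcomm h, mul_inv_cancel_right]
  have hν : ∀ (x h : ↥(twistedD4 K q)) (P : K → ↥(twistedD4 K q)) (χ : K),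
      (∀ u, x * P u = P u * x) → (∀ u u', P (u + u') = P u * P u') → h * x * h⁻¹ = x →
      (∀ u, h * P u * h⁻¹ = P (χ * u)) → χ ≠ 1 → ∀ u, c x (P u) = 1 := by
    intro x h P χ hxP hP hx hh hχ u
    have e1 : ∀ u, c x (P (χ * u)) = c x (P u) := fun u => by
      have := cconj (L h) x (P u)
      rw [hL, hx, hh, kcomm (cker _ _ (hxP u)), mul_inv_cancel_right] at this
      exact this.symm
    have e2 := e1 (u / (χ - 1))
    rw [show χ * (u / (χ - 1)) = u / (χ - 1) + u by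
      field_simp [sub_ne_zero.2 hχ]; ring, hP, cmulK _ _ _ (cker _ _ (hxP u)), mul_eq_left] at e2
    exact e2
  obtain ⟨μ, hμ, hord, -⟩ := exists_norm_one C
  set h1 := gT C μ (one_pow (q - 1)) with hh1
  obtain ⟨tA, t22, t23, tAB, tA2B, -⟩ := gT_conj C μ (one_pow (q - 1))
  have hμ' : (μ : K) * C.f μ * C.f (C.f μ) = 1 := congrArg Units.val hμ
  have hμ2 : (μ : K) * μ ≠ 1 := fun e => by
    have : μ ^ 2 = 1 := Units.ext (by rw [Units.val_pow_eq_pow_val, sq, e, Units.val_one])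
    have := orderOf_le_of_pow_eq_one (by norm_num) this
    rw [hord] at this
    omega
  have hne1 : C.f (μ : K) ≠ 0 := (map_ne_zero _).2 μ.ne_zero
  have hne2 : C.f (C.f (μ : K)) ≠ 0 := (map_ne_zero _).2 hne1
  have hχ1 : (μ : K) * ((1 : Kˣ) : K) / (C.f μ * C.f (C.f μ)) ≠ 1 := fun e => by
    rw [Units.val_one, mul_one, div_eq_one_iff_eq (mul_ne_zero hne1 hne2)] at e
    exact hμ2 (by linear_combination (μ : K) * e + hμ')
  have hχ2 : (μ : K) * C.f (C.f μ) / C.f μ ≠ 1 := fun e => by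
    rw [div_eq_one_iff_eq hne1] at e
    have e2 : C.f ((μ : K) * μ) = 1 := by
      rw [map_mul]; linear_combination hμ' - C.f (μ : K) * e
    exact hμ2 (C.f.injective (e2.trans (map_one C.f).symm))
  have hfixA : ∀ s, h1 * gA C s * h1⁻¹ = gA C s := fun s => tA s s (by
    rw [hμ, Units.val_one, one_mul, div_one, one_mul])
  have hfix23 : ∀ z, h1 * gC23 C z * h1⁻¹ = gC23 C z := fun z => t23 z z (by
    rw [Units.val_one, one_mul])
  -- the centre of the radical lifts centrally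
  have hcomm23 : ∀ z, ∀ y ∈ Qg C, gC23 C z * y = y * gC23 C z := fun z y hy =>
    Subtype.ext (c23 C hy (z : K)).eq
  set n1 : ↥(twistedD4 K q) := ⟨C.sys.nO o1, C.sys.nO_mem o1⟩
  set n0 : ↥(twistedD4 K q) := ⟨C.sys.nO o0, C.sys.nO_mem o0⟩
  obtain ⟨-, -, -, -, -, -, r14, r22, r23, -, -, -, -, -, -, e14, e22, e23, h14, h22, h23⟩ :=
    sigma_tables
  have hw1 : ∀ r r' : ℕ, ∀ hr : r < chevD4.nroots,
      ((O o1).word.map Fin.val).foldr (fun i x => chevD4.reflectRoot i x) r = r' →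
      ((O o1).wO ⟨r, hr⟩).val = r' := fun r r' hr e => by
    rw [Orb.wO, DataD4.facts.sW_val_foldr]; exact e
  have hn1A : ∀ s, ∃ y, n1 * gA C s * n1⁻¹ = gC22 C y := fun s => by
    obtain ⟨y, e⟩ := perm_single C (n := n1) (C.sys.nO_perm o1) (r := 14) (by decide)
      (hw1 14 22 _ perm_tables.2.2.1) h22 r22 e22 (s := s) (g := gA C s) rfl
    exact ⟨y, Subtype.ext e⟩
  have hn1Z : ∀ s, ∃ y, n1 * gC23 C s * n1⁻¹ = gC23 C y := fun s => by
    obtain ⟨y, e⟩ := perm_single C (n := n1) (C.sys.nO_perm o1) (r := 23) (by decide)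
      (hw1 23 23 _ split_tables.1) h23 r23 e23 (s := s) (g := gC23 C s) rfl
    exact ⟨y, Subtype.ext e⟩
  have hn3 : ∀ s, ∃ z, n1 * n0 * gC23 C z * (n1 * n0)⁻¹ = gA C s := by
    have hperm : PermAct ((n1 * n0 : ↥(twistedD4 K q)) : GL chevD4.Idx K)
        ((O o1).wO * (O o0).wO) :=
      DataD4.facts.permAct_mul (C.sys.nO_perm o1) (C.sys.nO_perm o0)
    have hex : ∀ z, ∃ s, n1 * n0 * gC23 C z * (n1 * n0)⁻¹ = gA C s := fun z => by
      obtain ⟨y, e⟩ := perm_single C hperm (r := 23) (r' := 14) (by decide) (by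
        rw [Orb.wO, Orb.wO, ← sW_append, DataD4.facts.sW_val_foldr]
        exact perm_tables.2.2.2.1) h14 r14 e14 (s := z) (g := gC23 C z) rfl
      exact ⟨y, Subtype.ext e⟩
    choose g hg using hex
    have hinj : Function.Injective g := fun a b e => by
      have h1 : gC23 C a = gC23 C b :=
        mul_left_cancel (mul_right_cancel ((hg a).trans ((congrArg (gA C) e).trans (hg b).symm)))
      have := DataD4.facts.coords_unique C.sig.hC h23 (ts := [(a : K)]) (ts' := [(b : K)]) rfl rfl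
        (by simpa [wU, gC23] using congrArg Subtype.val h1)
      exact Subtype.ext (List.cons.inj this).1
    intro s
    obtain ⟨z, rfl⟩ := Finite.surjective_of_injective hinj s
    exact ⟨z, hg z⟩
  have hzz : ∀ z z', c (gC23 C z) (gC23 C z') = 1 := by
    intro z z'
    have e1 : π (c (gA C 1) (gC22 C z')) = gC23 C z' := by
      rw [cpi, comm_gA_gC22, one_mul]
    have e2 := cconj (L (gC23 C z)) (gA C 1) (gC22 C z')
    rw [hL, hcomm23 z _ (gA_mem C 1), mul_inv_cancel_right, hcomm23 z _ (gC22_mem C z'),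
      mul_inv_cancel_right] at e2
    rw [← cc (u := L (gC23 C z)) (v := c (gA C 1) (gC22 C z')) (hL _) e1]
    simp only [cm]
    rw [e2, mul_inv_cancel]
  have hzk : ∀ z, ∀ y ∈ Qg C, c (gC23 C z) y ∈ π.ker := fun z y hy => cker _ _ (hcomm23 z y hy)
  have hzAB : ∀ z u, c (gC23 C z) (gAB C u) = 1 := fun z =>
    hν _ h1 _ _ (fun u => hcomm23 z _ (gAB_mem C u)) (gAB_add C) (hfix23 z) tAB hχ1
  have hzA2B : ∀ z u, c (gC23 C z) (gA2B C u) = 1 := fun z =>
    hν _ h1 _ _ (fun u => hcomm23 z _ (gA2B_mem C u)) (gA2B_add C) (hfix23 z) tA2B hχ2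
  have hz22 : ∀ z y, c (gC23 C z) (gC22 C y) = 1 := by
    intro z y
    obtain ⟨y', z', hy', e⟩ := conj_gA C 1 (-y)
    obtain rfl : y' = y := Subtype.ext (by simpa using hy')
    have hb : gB C 1 * gC23 C z * (gB C 1)⁻¹ = gC23 C z := by
      rw [mul_inv_eq_iff_eq_mul, ← hφB']
      exact Subtype.ext (hφ23 (upM 1) (z : K)).eq.symm
    have e2 := cconj (L (gB C 1)) (gC23 C z) (gA C (-y'))
    rw [hL, hb, e, kcomm (hzk z _ (gA_mem C _)), mul_inv_cancel_right] at e2
    rw [gP, cmulK _ _ _ (hzk z _ (gC23_mem C _)), hzz, mul_one,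
      cmulK _ _ _ (hzk z _ (gC22_mem C _)), cmulK _ _ _ (hzk z _ (gA2B_mem C _)), hzA2B, mul_one,
      cmulK _ _ _ (hzk z _ (gAB_mem C _)), hzAB, mul_one] at e2
    exact left_eq_mul.1 e2
  have hzA : ∀ z s, c (gC23 C z) (gA C s) = 1 := by
    intro z s
    obtain ⟨y, hy⟩ := hn1A s
    obtain ⟨z', hz'⟩ := hn1Z z
    have := cconj (L n1) (gC23 C z) (gA C s)
    rw [hL, hy, hz', hz22, mul_inv_eq_one, mul_eq_left] at this
    exact this
  have hzQ : ∀ z, ∀ y ∈ Qg C, c (gC23 C z) y = 1 := by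
    intro z y hy
    obtain ⟨s, u, w, y, z', rfl⟩ := exists_gP C hy
    rw [gP, cmulK _ _ _ (hzk z _ (gC23_mem C _)), hzz, mul_one,
      cmulK _ _ _ (hzk z _ (gC22_mem C _)), hz22, mul_one,
      cmulK _ _ _ (hzk z _ (gA2B_mem C _)), hzA2B, mul_one,
      cmulK _ _ _ (hzk z _ (gAB_mem C _)), hzAB, mul_one, hzA]
  have hzφ : ∀ z x, c (gC23 C z) (φ x) = 1 := by
    intro z
    have hk : ∀ x, c (gC23 C z) (φ x) ∈ π.ker := fun x =>
      cker _ _ (Subtype.ext (hφ23 x (z : K)).eq)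
    let : CommGroup π.ker := { (inferInstance : Group π.ker) with
      mul_comm := fun u v => Subtype.ext (kcomm v.2 u) }
    let ρ : SL(2, K) →* π.ker := MonoidHom.mk' (fun x => ⟨_, hk x⟩) fun x x' => Subtype.ext (by
      show c (gC23 C z) (φ (x * x')) = c (gC23 C z) (φ x) * c (gC23 C z) (φ x')
      rw [map_mul, cmulK _ _ _ (hk x')])
    exact fun x => congrArg Subtype.val (CfsgLib.Schur.hom_eq_one_of_perfect
      (CfsgLib.Classical.SmallIso.commutator_sl_two (by omega)) ρ x)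
  have hcent : ∀ (u w : Γ) z, π u = gC23 C z → (π w ∈ Qg C ∨ ∃ x, φ x = π w) → u * w = w * u := by
    intro u w z hu hw
    have h : cm u w = 1 := by
      rw [cc hu rfl]
      rcases hw with hw | ⟨x, hx⟩
      · exact hzQ z _ hw
      · rw [← hx]; exact hzφ z x
    rwa [cm, mul_inv_eq_one, mul_inv_eq_iff_eq_mul] at h
  -- the lift of the centre
  let φ0 : Fq C → Γ := fun z => c (gA C 1) (gC22 C z)
  have hφ0π : ∀ z, π (φ0 z) = gC23 C z := fun z => by rw [cpi, comm_gA_gC22, one_mul]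
  have hfixg : ∀ (g : Γ) z, (π g ∈ Qg C ∨ ∃ x, φ x = π g) → g * φ0 z * g⁻¹ = φ0 z := fun g z hg => by
    rw [← hcent (φ0 z) g z (hφ0π z) hg, mul_inv_cancel_right]
  have hπQ : ∀ {x}, x ∈ Qg C → π (L x) ∈ Qg C := fun h => by rwa [hL]
  have hφ0add : ∀ z z', φ0 (z + z') = φ0 z * φ0 z' := fun z z' => by
    show c (gA C 1) (gC22 C (z + z')) = _
    rw [gC22_add, cmulR]
    congr 1
    exact hfixg _ z' (Or.inl (hπQ (gC22_mem C z)))
  let B0 : Subgroup Γ :=
    { carrier := Set.range φ0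
      one_mem' := ⟨0, by show c (gA C 1) (gC22 C 0) = 1; rw [map_zero_eq_one C (gC22_add C), c1]⟩
      mul_mem' := by rintro _ _ ⟨z, rfl⟩ ⟨z', rfl⟩; exact ⟨z + z', hφ0add z z'⟩
      inv_mem' := by
        rintro _ ⟨z, rfl⟩
        refine ⟨-z, eq_inv_of_mul_eq_one_left ?_⟩
        rw [← hφ0add, neg_add_cancel]
        show c (gA C 1) (gC22 C 0) = 1
        rw [map_zero_eq_one C (gC22_add C), c1] }
  have hB0inj : ∀ b ∈ B0, π b = 1 → b = 1 := by
    rintro _ ⟨z, rfl⟩ e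
    rw [hφ0π] at e
    have := DataD4.facts.coords_unique C.sig.hC h23 (ts := [(z : K)]) (ts' := [0]) rfl rfl (by
      simpa [wU, gC23, DataD4.facts.xU_zero (show 23 < chevD4.nroots by decide)] using
        congrArg Subtype.val e)
    rw [show z = 0 from Subtype.ext (List.cons.inj this).1]
    show c (gA C 1) (gC22 C 0) = 1
    rw [map_zero_eq_one C (gC22_add C), c1]
  have hcR : ∀ {x y y'}, x ∈ Qg C → y ∈ Qg C → y' ∈ Qg C → c x (y * y') = c x y * c x y' := by
    intro x y y' hx hy hy'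
    obtain ⟨z, hz⟩ := comm_Qg C hx hy'
    rw [cmulR]
    congr 1
    rw [← hcent (c x y') (L y) z ((cpi x y').trans hz) (Or.inl (hπQ hy)), mul_inv_cancel_right]
  have hcT : ∀ (μ : Kˣ) x y, x ∈ Qg C → y ∈ Qg C →
      c (gT C μ (one_pow (q - 1)) * x * (gT C μ (one_pow (q - 1)))⁻¹)
        (gT C μ (one_pow (q - 1)) * y * (gT C μ (one_pow (q - 1)))⁻¹) = c x y := by
    intro μ x y hx hy
    obtain ⟨z, hz⟩ := comm_Qg C hx hy
    obtain ⟨g, hg⟩ := hφT μ
    have hg' : φ g = gT C μ (one_pow (q - 1)) := Subtype.ext hg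
    rw [← hg', ← hπs, ← cconj, ← hcent (c x y) (s g) z ((cpi x y).trans hz)
      (Or.inr ⟨g, (hπs g).symm⟩), mul_inv_cancel_right]
  have hψ : ∀ s y, c (gA C s) (gC22 C y) = φ0 (s * y) := by
    intro s y
    rcases eq_or_ne (s : K) 0 with h0 | h0
    · rw [show s = 0 from Subtype.ext h0, zero_mul, map_zero_eq_one C (gA_add C), csymm, c1, inv_one]
      show (1 : Γ) = c (gA C 1) (gC22 C 0)
      rw [map_zero_eq_one C (gC22_add C), c1]
    · obtain ⟨ν, hν'⟩ := exists_norm C s⁻¹ (by simpa using h0)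
      obtain ⟨uA, u22, -⟩ := gT_conj C ν (one_pow (q - 1))
      have e := hcT ν _ _ (gA_mem C 1) (gC22_mem C (s * y))
      rw [uA 1 s (by rw [hν']; simp), u22 (s * y) y (by rw [hν']; simp [h0])] at e
      exact e
  have hAA : ∀ s s', c (gA C s) (gA C s') = 1 := by
    intro s s'
    obtain ⟨z, hz⟩ := hn3 s
    obtain ⟨z', hz'⟩ := hn3 s'
    have := cconj (L (n1 * n0)) (gC23 C z) (gC23 C z')
    rw [hL, hz, hz', hzz, mul_one, mul_inv_cancel] at this
    exact this.symm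
  have hAAB : ∀ s u, c (gA C s) (gAB C u) = 1 := fun s =>
    hν _ h1 _ _ (fun u => Subtype.ext (by
      have hb := pair_tables.2.2.2.2.2.2.1
      exact ((C.sig.commute_xU (by decide) (by decide) (hb 19 (by decide)) _ _).mul_right
        ((C.sig.commute_xU (by decide) (by decide) (hb 16 (by decide)) _ _).mul_right
          (C.sig.commute_xU (by decide) (by decide) (hb 15 (by decide)) _ _))).eq))
      (gAB_add C) (hfixA s) tAB hχ1
  have hAA2B : ∀ s u, c (gA C s) (gA2B C u) = 1 := fun s =>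
    hν _ h1 _ _ (fun u => Subtype.ext (by
      have hb := pair_tables.2.2.2.2.2.2.1
      exact ((C.sig.commute_xU (by decide) (by decide) (hb 20 (by decide)) _ _).mul_right
        ((C.sig.commute_xU (by decide) (by decide) (hb 21 (by decide)) _ _).mul_right
          (C.sig.commute_xU (by decide) (by decide) (hb 17 (by decide)) _ _))).eq))
      (gA2B_add C) (hfixA s) tA2B hχ2
  have hAQ : ∀ s, ∀ y ∈ Qg C, c (gA C s) y ∈ B0 := by
    intro s y hy
    obtain ⟨s', u, w, y, z, rfl⟩ := exists_gP C hy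
    have hA := gA_mem C s
    rw [gP, hcR hA (mul_mem (mul_mem (mul_mem (gA_mem C _) (gAB_mem C _)) (gA2B_mem C _))
        (gC22_mem C _)) (gC23_mem C _),
      hcR hA (mul_mem (mul_mem (gA_mem C _) (gAB_mem C _)) (gA2B_mem C _)) (gC22_mem C _),
      hcR hA (mul_mem (gA_mem C _) (gAB_mem C _)) (gA2B_mem C _),
      hcR hA (gA_mem C _) (gAB_mem C _), hAA, hAAB, hAA2B, csymm (gC23 C z), hzQ z _ hA, hψ,
      one_mul, one_mul, one_mul, inv_one, mul_one]
    exact ⟨_, rfl⟩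
  have hB0fix : ∀ (g : Γ), (π g ∈ Qg C ∨ ∃ x, φ x = π g) → ∀ b ∈ B0, g * b * g⁻¹ ∈ B0 := by
    rintro g hg _ ⟨z, rfl⟩
    rw [hfixg g z hg]
    exact ⟨z, rfl⟩
  let M : Subgroup ↥(twistedD4 K q) :=
    { carrier := {x | x ∈ Qg C ∧ ∀ y ∈ Qg C, c x y ∈ B0}
      one_mem' := ⟨one_mem _, fun y _ => by rw [csymm, c1, inv_one]; exact one_mem _⟩
      mul_mem' := by
        rintro x x' ⟨hx, hx1⟩ ⟨hx', hx1'⟩
        refine ⟨mul_mem hx hx', fun y hy => ?_⟩
        rw [csymm, hcR hy hx hx', mul_inv_rev, ← csymm, ← csymm]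
        exact mul_mem (hx1' y hy) (hx1 y hy)
      inv_mem' := by
        rintro x ⟨hx, hx1⟩
        refine ⟨inv_mem hx, fun y hy => ?_⟩
        have e := hcR hy hx (inv_mem hx)
        rw [mul_inv_cancel, c1] at e
        rw [csymm, show c y x⁻¹ = (c y x)⁻¹ from eq_inv_of_mul_eq_one_right e.symm, inv_inv, csymm]
        exact inv_mem (hx1 y hy) }
  have hMconj : ∀ (g : Γ), (∃ x, φ x = π g) → (π g : GL chevD4.Idx K) ∈ chevD4.borelSubgroup K →
      ∀ x ∈ M, π g * x * (π g)⁻¹ ∈ M := by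
    intro g hgφ hgB x hx
    refine ⟨conj_Qg C hgB hx.1, fun y hy => ?_⟩
    have hy' : (π g)⁻¹ * y * π g ∈ Qg C := by
      have := conj_Qg C (g := (π g)⁻¹) (by rw [Subgroup.coe_inv]; exact inv_mem hgB) hy
      rwa [inv_inv] at this
    have e := cconj g x ((π g)⁻¹ * y * π g)
    rw [show π g * ((π g)⁻¹ * y * π g) * (π g)⁻¹ = y by group] at e
    rw [← e]
    exact hB0fix g (Or.inr hgφ) _ (hx.2 _ hy')
  have hQQ : ∀ x ∈ Qg C, ∀ y ∈ Qg C, c x y ∈ B0 := fun x hx => by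
    refine (Qg_le C M (fun s => ⟨gA_mem C s, hAQ s⟩) (fun z => ⟨gC23_mem C z, fun y hy => by
      rw [hzQ z y hy]; exact one_mem _⟩) (fun ν _ x hx => ?_) (fun t s' => ?_) hx).2
    · obtain ⟨g, hg⟩ := hφT ν
      have hg' : φ g = gT C ν (one_pow (q - 1)) := Subtype.ext hg
      have := hMconj (s g) ⟨g, (hπs g).symm⟩ (by rw [hπs, hg']; exact gT_borel C ν _) x hx
      rwa [hπs, hg'] at this
    · have := hMconj (s (upM t)) ⟨upM t, (hπs _).symm⟩ (by rw [hπs, hφB']; exact gB_borel C t)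
        (gA C s') ⟨gA_mem C s', hAQ s'⟩
      rwa [hπs, hφB'] at this
  refine ⟨⟨s, φ0, fun t => by rw [hπs, hφB'], hφ0π, hφ0add, fun g z hg => hfixg g z ?_, ?_, ?_,
    fun a => ?_⟩⟩
  · rcases hg with h | ⟨x, hx⟩
    exacts [Or.inl h, Or.inr ⟨x, (hπs x).symm.trans hx⟩]
  · intro g y hg hy
    obtain ⟨z, hz⟩ := hQQ _ hg _ hy
    exact ⟨z, (cc rfl rfl).trans hz.symm⟩
  · intro u v a y hu hv
    exact (cc hu hv).trans (hψ a y)
  · obtain ⟨z, hz⟩ := hn3 a
    exact ⟨L (n1 * n0), z, by rw [map_mul, map_mul, map_inv, hφ0π, hL, hz]⟩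

/-- The complement for two elements in the fixed field. -/
theorem complement_two {Γ : Type*} [Group Γ] [Finite Γ] (π : Γ →* ↥(twistedD4 K q))
    (hsurj : Function.Surjective π) (hq2 : q = 2) (R : RadData C π) :
    ∃ B' : Subgroup Γ, (∀ b ∈ B', π b ∈ Qg C) ∧
      (∀ b ∈ B', π b = 1 → b = 1) ∧ Qg C ≤ B'.map π ∧
      ∀ t, ∀ b ∈ B', R.s (upM t) * b * (R.s (upM t))⁻¹ ∈ B' := by
  classical
  subst hq2
  obtain ⟨s, φ0, hπX, hφ0π, hφ0add, hfixg, hcm, hψ, hn3⟩ := R
  have hφ0zero : φ0 0 = 1 := map_zero_eq_one C hφ0add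
  have hcomm : ∀ g y, π g ∈ Qg C → π y ∈ Qg C → ∃ z, cm g y = φ0 z := hcm
  choose L hL using hsurj
  have hπQ : ∀ {x}, x ∈ Qg C → π (L x) ∈ Qg C := fun h => by rwa [hL]
  let B0 : Subgroup Γ :=
    { carrier := Set.range φ0
      one_mem' := ⟨0, hφ0zero⟩
      mul_mem' := by rintro _ _ ⟨z, rfl⟩ ⟨z', rfl⟩; exact ⟨z + z', hφ0add z z'⟩
      inv_mem' := by
        rintro _ ⟨z, rfl⟩
        exact ⟨-z, eq_inv_of_mul_eq_one_left (by rw [← hφ0add, neg_add_cancel, hφ0zero])⟩ }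
  have hB0inj : ∀ b ∈ B0, π b = 1 → b = 1 := by
    rintro _ ⟨z, rfl⟩ e
    rw [hφ0π] at e
    have := DataD4.facts.coords_unique C.sig.hC sigma_tables.2.2.2.2.2.2.2.2.2.2.2.2.2.2.2.2.2.2.2.2
      (ts := [(z : K)]) (ts' := [0]) rfl rfl (by
      simpa [wU, gC23, DataD4.facts.xU_zero (show 23 < chevD4.nroots by decide)] using
        congrArg Subtype.val e)
    rw [show z = 0 from Subtype.ext (List.cons.inj this).1, hφ0zero]
  have hB0fix : ∀ (g : Γ), (π g ∈ Qg C ∨ ∃ x, π (s x) = π g) → ∀ b ∈ B0, g * b * g⁻¹ ∈ B0 := by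
    rintro g hg _ ⟨z, rfl⟩
    rw [hfixg g z hg]
    exact ⟨z, rfl⟩
  let Sq : Subgroup Γ := (Qg C).comap π
  have hSQ : ∀ g ∈ Sq, ∀ y ∈ Sq, cm g y ∈ B0 := fun g hg y hy => by
    obtain ⟨z, hz⟩ := hcomm g y hg hy
    exact ⟨z, hz.symm⟩
  have hB0Sq : B0 ≤ Sq := by
    rintro _ ⟨z, rfl⟩
    show π (φ0 z) ∈ Qg C
    rw [hφ0π]; exact gC23_mem C z
  have hupM : ∀ t u : K, (upM (t + u) : SL(2, K)) = upM t * upM u := fun t u => by
    refine Subtype.ext ?_
    simp only [Matrix.SpecialLinearGroup.coe_mul]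
    simp [upM, add_comm]
  have h2 : (2 : K) = 0 := by
    have := FiniteField.cast_card_eq_zero K
    rw [C.card] at this
    norm_num at this
    have h : (2 : K) ^ 3 = 0 := by linear_combination this
    exact eq_zero_of_pow_eq_zero h
  have h01 : ∀ a : Fq C, a = 0 ∨ a = 1 := fun a => by
    have h := (mem_Fq C).1 a.2
    rcases eq_or_ne (a : K) 0 with h0 | h0
    · exact Or.inl (Subtype.ext h0)
    · exact Or.inr (Subtype.ext (by
        rw [sq] at h; exact mul_eq_left₀ h0 |>.1 h))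
  obtain ⟨m, z₁, hz₁⟩ := hn3 1
  set α := m * φ0 z₁ * m⁻¹ with hαdef
  have hαπ : π α = gA C 1 := by rw [hαdef]; exact hz₁
  have hα2 : α * α = 1 := by
    rw [hαdef, show m * φ0 z₁ * m⁻¹ * (m * φ0 z₁ * m⁻¹) = m * (φ0 z₁ * φ0 z₁) * m⁻¹ by group,
      ← hφ0add]
    have : z₁ + z₁ = 0 := Subtype.ext (by
      show (z₁ : K) + z₁ = 0
      linear_combination (z₁ : K) * h2)
    rw [this, hφ0zero]
    group
  let αt : K → Γ := fun t => s (upM t) * α * (s (upM t))⁻¹
  have hαtπ : ∀ t, π (αt t) = gB C t * gA C 1 * (gB C t)⁻¹ := fun t => by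
    simp only [αt, map_mul, map_inv, hπX, hαπ]
  have hαtQ : ∀ t, αt t ∈ Sq := fun t => by
    show π (αt t) ∈ Qg C
    rw [hαtπ]; exact conj_Qg C (gB_borel C t) (gA_mem C 1)
  let B' := Subgroup.closure ((B0 : Set Γ) ∪ Set.range αt)
  have hB'Sq : B' ≤ Sq := (Subgroup.closure_le _).2 (by
    rintro y (hy | ⟨t, rfl⟩)
    exacts [hB0Sq hy, hαtQ t])
  have hsurj' : Qg C ≤ B'.map π := by
    refine Qg_le C _ (fun a => ?_) (fun z => ⟨φ0 z, Subgroup.subset_closure (Or.inl ⟨z, rfl⟩),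
      hφ0π z⟩) (fun ν hν1 x hx => ?_) (fun t a => ?_)
    · rcases h01 a with rfl | rfl
      · rw [map_zero_eq_one C (gA_add C)]; exact one_mem _
      · refine ⟨αt 0, Subgroup.subset_closure (Or.inr ⟨0, rfl⟩), ?_⟩
        rw [hαtπ, map_zero_eq_one C (gB_add C)]; group
    · set h := gT C ν (one_pow (2 - 1))
      obtain ⟨vA, -, v23, -, -, vB⟩ := gT_conj C ν (one_pow (2 - 1))
      have hle : B'.map π ≤ (B'.map π).comap (MulAut.conj h).toMonoidHom := by
        rw [Subgroup.map_le_iff_le_comap, Subgroup.closure_le]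
        rintro y (⟨z, rfl⟩ | ⟨t, rfl⟩)
        · show h * π (φ0 z) * h⁻¹ ∈ B'.map π
          rw [hφ0π, v23 z z (by rw [Units.val_one, one_mul])]
          exact ⟨φ0 z, Subgroup.subset_closure (Or.inl ⟨z, rfl⟩), hφ0π z⟩
        · show h * π (αt t) * h⁻¹ ∈ B'.map π
          rw [hαtπ, show h * (gB C t * gA C 1 * (gB C t)⁻¹) * h⁻¹ =
            (h * gB C t * h⁻¹) * (h * gA C 1 * h⁻¹) * (h * gB C t * h⁻¹)⁻¹ by group, vB,
            vA 1 1 (by rw [hν1, Units.val_one, one_mul, div_one, one_mul]), ← hαtπ]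
          exact ⟨_, Subgroup.subset_closure (Or.inr ⟨_, rfl⟩), rfl⟩
      exact hle hx
    · rcases h01 a with rfl | rfl
      · rw [map_zero_eq_one C (gA_add C), mul_one, mul_inv_cancel]; exact one_mem _
      · exact ⟨αt t, Subgroup.subset_closure (Or.inr ⟨t, rfl⟩), hαtπ t⟩
  refine ⟨B', hB'Sq, ?_, hsurj', fun t b hb => ?_⟩
  · haveI : Fintype (Fq C) := Fintype.ofFinite _
    have hFq : Nat.card (Fq C) = 2 := by rw [Nat.card_eq_fintype_card, card_Fq C]
    have hB0card : Nat.card B0 ≤ 2 := hFq ▸ Nat.card_le_card_of_surjective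
      (fun z : Fq C => (⟨φ0 z, z, rfl⟩ : B0)) (by rintro ⟨_, z, rfl⟩; exact ⟨z, rfl⟩)
    have hN : ∀ l : List K, ∃ N : Subgroup Γ, B0 ≤ N ∧ N ≤ Sq ∧ (∀ t ∈ l, αt t ∈ N) ∧
        Nat.card N ≤ 2 ^ (l.length + 1) := by
      intro l
      induction l with
      | nil => exact ⟨B0, le_rfl, hB0Sq, fun t ht => by simp at ht, by simpa using hB0card⟩
      | cons t l ih =>
        obtain ⟨N, hN1, hN2, hN3, hN4⟩ := ih
        have hnorm : ∀ a ∈ Sq, ∀ y ∈ N, a * y * a⁻¹ ∈ N := fun a ha y hy => by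
          have := mul_mem (hN1 (hSQ a ha y (hN2 hy))) hy
          rwa [cm, inv_mul_cancel_right] at this
        have hle : Subgroup.zpowers (αt t) ≤ Subgroup.normalizer (N : Set Γ) := by
          rw [Subgroup.zpowers_le]
          refine Subgroup.mem_normalizer_iff.2 fun y => ⟨hnorm _ (hαtQ t) y, fun hy => ?_⟩
          have := hnorm _ (inv_mem (hαtQ t)) _ hy
          rwa [show (αt t)⁻¹ * (αt t * y * (αt t)⁻¹) * (αt t)⁻¹⁻¹ = y by group] at this
        refine ⟨N ⊔ Subgroup.zpowers (αt t), le_sup_of_le_left hN1,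
          sup_le hN2 (Subgroup.zpowers_le.2 (hαtQ t)), fun u hu => ?_, ?_⟩
        · rcases List.mem_cons.1 hu with rfl | hu
          exacts [Subgroup.mem_sup_right (Subgroup.mem_zpowers _),
            Subgroup.mem_sup_left (hN3 u hu)]
        · have hz : Nat.card (Subgroup.zpowers (αt t)) ≤ 2 := by
            rw [Nat.card_zpowers]
            refine orderOf_le_of_pow_eq_one (by norm_num) ?_
            simp only [αt]
            rw [sq, show s (upM t) * α * (s (upM t))⁻¹ * (s (upM t) * α * (s (upM t))⁻¹) =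
              s (upM t) * (α * α) * (s (upM t))⁻¹ by group, hα2]
            group
          rw [← SetLike.coe_sort_coe, Subgroup.coe_mul_of_right_le_normalizer_left _ _ hle]
          refine Set.natCard_mul_le.trans ?_
          rw [List.length_cons, pow_succ]
          exact Nat.mul_le_mul hN4 hz
    obtain ⟨N, hN1, hN2, hN3, hN4⟩ := hN (Finset.univ : Finset K).toList
    rw [Finset.length_toList, Finset.card_univ, C.card] at hN4
    have hB'N : B' ≤ N := (Subgroup.closure_le _).2 (by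
      rintro y (hy | ⟨t, rfl⟩)
      exacts [hN1 hy, hN3 t (by simp)])
    have hcardQ : 2 ^ 9 ≤ Nat.card (Qg C) := card_Qg_ge C
    have hbound : Nat.card B' ≤ Nat.card (B'.map π) :=
      ((Subgroup.card_le_of_le hB'N).trans hN4).trans
        (le_trans (by norm_num) (hcardQ.trans (Subgroup.card_le_of_le hsurj')))
    let f : B' → B'.map π := fun b => ⟨π b, b, b.2, rfl⟩
    have hf : Function.Surjective f := by
      rintro ⟨_, b, hb, rfl⟩; exact ⟨⟨b, hb⟩, rfl⟩
    have hbij := hf.bijective_of_nat_card_le hbound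
    intro b hb e
    have := hbij.1 (a₁ := ⟨b, hb⟩) (a₂ := 1) (Subtype.ext (by simp [f, e]))
    exact congrArg Subtype.val this
  · refine (Subgroup.closure_le (B'.comap (MulAut.conj (s (upM t))).toMonoidHom)).2 ?_ hb
    rintro y (⟨z, rfl⟩ | ⟨u, rfl⟩)
    · show s (upM t) * φ0 z * (s (upM t))⁻¹ ∈ B'
      rw [hfixg _ z (Or.inr ⟨upM t, rfl⟩)]
      exact Subgroup.subset_closure (Or.inl ⟨z, rfl⟩)
    · refine Subgroup.subset_closure (Or.inr ⟨t + u, ?_⟩)
      show αt (t + u) = s (upM t) * αt u * (s (upM t))⁻¹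
      simp only [αt, hupM, map_mul]
      group

/-- The complement for more than two elements in the fixed field. -/
theorem complement_ge {Γ : Type*} [Group Γ] [Finite Γ] (π : Γ →* ↥(twistedD4 K q))
    (hsurj : Function.Surjective π) (hc : π.ker ≤ Subgroup.center Γ) (hq2 : q ≠ 2)
    (R : RadData C π) :
    ∃ B' : Subgroup Γ, (∀ b ∈ B', π b ∈ Qg C) ∧
      (∀ b ∈ B', π b = 1 → b = 1) ∧ Qg C ≤ B'.map π ∧
      ∀ t, ∀ b ∈ B', R.s (upM t) * b * (R.s (upM t))⁻¹ ∈ B' := by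
  classical
  obtain ⟨s, φ0, hπX, hφ0π, hφ0add, hfixg, hcm, hψ, hn3⟩ := R
  have hφ0zero : φ0 0 = 1 := map_zero_eq_one C hφ0add
  have hcomm : ∀ g y, π g ∈ Qg C → π y ∈ Qg C → ∃ z, cm g y = φ0 z := hcm
  choose L hL using hsurj
  have hπQ : ∀ {x}, x ∈ Qg C → π (L x) ∈ Qg C := fun h => by rwa [hL]
  let B0 : Subgroup Γ :=
    { carrier := Set.range φ0
      one_mem' := ⟨0, hφ0zero⟩
      mul_mem' := by rintro _ _ ⟨z, rfl⟩ ⟨z', rfl⟩; exact ⟨z + z', hφ0add z z'⟩
      inv_mem' := by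
        rintro _ ⟨z, rfl⟩
        exact ⟨-z, eq_inv_of_mul_eq_one_left (by rw [← hφ0add, neg_add_cancel, hφ0zero])⟩ }
  have hB0inj : ∀ b ∈ B0, π b = 1 → b = 1 := by
    rintro _ ⟨z, rfl⟩ e
    rw [hφ0π] at e
    have := DataD4.facts.coords_unique C.sig.hC sigma_tables.2.2.2.2.2.2.2.2.2.2.2.2.2.2.2.2.2.2.2.2
      (ts := [(z : K)]) (ts' := [0]) rfl rfl (by
      simpa [wU, gC23, DataD4.facts.xU_zero (show 23 < chevD4.nroots by decide)] using
        congrArg Subtype.val e)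
    rw [show z = 0 from Subtype.ext (List.cons.inj this).1, hφ0zero]
  have hB0fix : ∀ (g : Γ), (π g ∈ Qg C ∨ ∃ x, π (s x) = π g) → ∀ b ∈ B0, g * b * g⁻¹ ∈ B0 := by
    rintro g hg _ ⟨z, rfl⟩
    rw [hfixg g z hg]
    exact ⟨z, rfl⟩
  have hq := C.q_gt
  let Zg : Subgroup ↥(twistedD4 K q) :=
    { carrier := Set.range (gC23 C)
      one_mem' := ⟨0, map_zero_eq_one C (gC23_add C)⟩
      mul_mem' := by rintro _ _ ⟨z, rfl⟩ ⟨z', rfl⟩; exact ⟨z + z', gC23_add C z z'⟩
      inv_mem' := by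
        rintro _ ⟨z, rfl⟩
        exact ⟨-z, eq_inv_of_mul_eq_one_left (by
          rw [← gC23_add, neg_add_cancel, map_zero_eq_one C (gC23_add C)])⟩ }
  let Sq : Subgroup Γ := (Qg C).comap π
  let Nz : Subgroup Γ := Zg.comap π
  have hSQ : ∀ g ∈ Sq, ∀ y ∈ Sq, cm g y ∈ B0 := fun g hg y hy => by
    obtain ⟨z, hz⟩ := hcomm g y hg hy
    exact ⟨z, hz.symm⟩
  have hB0Sq : B0 ≤ Sq := by
    rintro _ ⟨z, rfl⟩
    show π (φ0 z) ∈ Qg C
    rw [hφ0π]; exact gC23_mem C z
  have hupM : ∀ t u : K, (upM (t + u) : SL(2, K)) = upM t * upM u := fun t u => by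
    refine Subtype.ext ?_
    simp only [Matrix.SpecialLinearGroup.coe_mul]
    simp [upM, add_comm]
  obtain ⟨a₀, ha₀⟩ := exists_gen C
  set a := a₀ ^ (q ^ 2 + q + 1) with hadef
  have haord : orderOf a = q - 1 := by
    rw [hadef, orderOf_pow' a₀ (by omega), ha₀, cube_sub_one C, Nat.gcd_mul_left_left,
      Nat.mul_div_cancel _ (by omega)]
  have haq : a ^ (q - 1) = 1 := haord ▸ pow_orderOf_eq_one a
  have ha1 : (a : K) - 1 ≠ 0 := fun e => by
    have : a = 1 := Units.ext (sub_eq_zero.1 e)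
    rw [← orderOf_eq_one_iff, haord] at this
    omega
  have haf := f_of_pow C haq
  have haa : (a * a) ^ (q - 1) = 1 := by rw [mul_pow, haq, one_mul]
  have hnrm : ((nrm C a : Kˣ) : K) = (a : K) * a * a := by
    show (a : K) * C.f (a : K) * C.f (C.f (a : K)) = _
    rw [haf, haf]
  let af : Fq C := ⟨(a : K), (mem_Fq C).2 (by rw [← C.hf]; exact haf)⟩
  let d : Fq C := (af - 1)⁻¹
  have hd : ∀ x : K, (a : K) * ((d : K) * x) + -((d : K) * x) = x := fun x => by
    show (a : K) * (((a : K) - 1)⁻¹ * x) + -(((a : K) - 1)⁻¹ * x) = x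
    field_simp
    ring
  obtain ⟨wA, w22, w23, wAB, wA2B, wB⟩ := gT_conj C a haa
  set h := gT C a haa with hhdef
  have ha0 : (a : K) ≠ 0 := a.ne_zero
  have hconjP : ∀ s u w y z, h * gP C s u w y z * h⁻¹ =
      gP C (af * s) ((a : K) * u) ((a : K) * w) (af * y) (af * af * z) := by
    intro s u w y z
    rw [show h * gP C s u w y z * h⁻¹ = (h * gA C s * h⁻¹) * (h * gAB C u * h⁻¹) *
      (h * gA2B C w * h⁻¹) * (h * gC22 C y * h⁻¹) * (h * gC23 C z * h⁻¹) by
        simp only [gP]; group,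
      wA s (af * s) (by
        rw [hnrm, Subfield.coe_mul, Units.val_mul]
        show (a : K) * (s : K) = _
        field_simp),
      w22 y (af * y) (by
        rw [hnrm, Subfield.coe_mul, Units.val_mul]
        show (a : K) * (y : K) = _
        field_simp),
      w23 z (af * af * z) (by rw [Subfield.coe_mul, Subfield.coe_mul, Units.val_mul]),
      wAB, wA2B, gP, Units.val_mul, haf, haf]
    congr 4
    · congr 1; field_simp
    · field_simp
  have hcomp : Comp π Sq Nz B0 := by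
    refine ⟨fun y hy => ?_, ?_, ?_, fun y hy => ?_, fun b hb hk => hB0inj b hb hk,
      fun g hg b hb => hB0fix g (Or.inl hg) b hb⟩
    · show π y ∈ Zg
      rw [MonoidHom.mem_ker.1 hy]; exact one_mem _
    · rintro _ ⟨z, rfl⟩
      exact ⟨z, (hφ0π z).symm⟩
    · rintro y ⟨z, hz⟩
      show π y ∈ Qg C
      rw [← hz]; exact gC23_mem C z
    · obtain ⟨z, hz⟩ := hy
      exact ⟨y * (φ0 z)⁻¹, by rw [MonoidHom.mem_ker, map_mul, map_inv, hφ0π, hz, mul_inv_cancel],
        φ0 z, ⟨z, rfl⟩, (inv_mul_cancel_right _ _).symm⟩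
  have hcrd : ∀ y ∈ Qg C, ∀ (s : Fq C) u w (y' : Fq C) z, y = gP C s u w y' z →
      Crd ((h * y * h⁻¹ * y⁻¹ : ↥(twistedD4 K q)) : GL chevD4.Idx K)
        (crdV C ((a : K) * s + -(s : K)) ((a : K) * u + -u) ((a : K) * w + -w)
          ((a : K) * y' + -(y' : K))) := by
    rintro _ - s u w y' z rfl
    rw [hconjP, Subgroup.coe_mul, Subgroup.coe_inv, ← crdV_add, ← crdV_neg]
    exact (gP_crd C _ _ _ _ _).mul C ((gP_crd C _ _ _ _ _).inv C)
  have hhQ : ∀ x ∈ Qg C, h * x * h⁻¹ ∈ Qg C := fun x hx => conj_Qg C (gT_borel C a haa) hx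
  set ht := L h with hht
  have htB : ∀ b ∈ B0, ht * b * ht⁻¹ ∈ B0 := by
    rintro _ ⟨z, rfl⟩
    refine ⟨af * (af * z), ?_⟩
    have hu : ht * φ0 z * ht⁻¹ = cm (ht * L (gA C 1) * ht⁻¹) (ht * L (gC22 C z) * ht⁻¹) := by
      rw [show φ0 z = cm (L (gA C 1)) (L (gC22 C z)) by rw [hψ _ _ 1 z (hL _) (hL _), one_mul]]
      simp only [cm]; group
    rw [hu, hψ _ _ af (af * z)]
    · rw [map_mul, map_mul, map_inv, hht, hL, hL, wA 1 af (by
        rw [hnrm, Units.val_mul]
        show (a : K) = _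
        rw [Subfield.coe_one]; field_simp)]
    · rw [map_mul, map_mul, map_inv, hht, hL, hL, w22 z (af * z) (by
        rw [hnrm, Subfield.coe_mul, Units.val_mul]
        show (a : K) * (z : K) = _
        field_simp)]
  have hπht : ∀ y, π (ht * y * ht⁻¹ * y⁻¹) = h * π y * h⁻¹ * (π y)⁻¹ := fun y => by
    rw [map_mul, map_mul, map_mul, map_inv, map_inv, hht, hL]
  obtain ⟨B', hB', -, hinv⟩ := hcomp.extend hc (M := Sq) hcomp.le_top le_rfl ht
    (fun y hy => by
      show π (ht * y * ht⁻¹) ∈ Qg C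
      rw [map_mul, map_mul, map_inv, hht, hL]; exact hhQ _ hy) htB hSQ
    (fun x hx => by
      obtain ⟨s, u, w, y, z, e⟩ := exists_gP C (x := π x) hx
      set x0 := gP C (d * s) ((d : K) * u) ((d : K) * w) (d * y) 0
      have hx0 : x0 ∈ Qg C := (gP_crd C _ _ _ _ _).mem C
      refine ⟨L x0, hπQ hx0, ?_⟩
      show π ((ht * L x0 * ht⁻¹ * (L x0)⁻¹)⁻¹ * x) ∈ Zg
      rw [map_mul, map_inv, hπht, hL, e]
      obtain ⟨z', hz'⟩ := of_crd_zero C (x := (h * x0 * h⁻¹ * x0⁻¹)⁻¹ * gP C s u w y z) (by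
        have h1 := hcrd x0 hx0 _ _ _ _ _ rfl
        simp only [Subfield.coe_mul, hd] at h1
        rw [Subgroup.coe_mul, Subgroup.coe_inv]
        have h2 := (h1.inv C).mul C (gP_crd C s u w y z)
        rwa [neg_add_cancel] at h2)
      exact ⟨z', hz'.symm⟩)
    (fun y hy hmem => by
      obtain ⟨s, u, w, y', z, e⟩ := exists_gP C (x := π y) hy
      change π (ht * y * ht⁻¹ * y⁻¹) ∈ Zg at hmem
      rw [hπht, e] at hmem
      obtain ⟨z', hz'⟩ := hmem
      have h1 := hcrd _ ((gP_crd C s u w y' z).mem C) _ _ _ _ _ rfl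
      rw [← hz'] at h1
      have h2 := Crd.unique C h1 (crd_z C (z' : K))
      have a14 := h2 14 (by decide)
      have a19 := h2 19 (by decide)
      have a20 := h2 20 (by decide)
      have a22 := h2 22 (by decide)
      simp only [crdV, if_pos rfl, if_neg (show ¬ (19 : ℕ) = 14 by decide),
        if_neg (show ¬ (20 : ℕ) = 14 by decide), if_neg (show ¬ (20 : ℕ) = 19 by decide),
        if_neg (show ¬ (20 : ℕ) = 16 by decide), if_neg (show ¬ (20 : ℕ) = 15 by decide),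
        if_neg (show ¬ (22 : ℕ) = 14 by decide), if_neg (show ¬ (22 : ℕ) = 19 by decide),
        if_neg (show ¬ (22 : ℕ) = 16 by decide), if_neg (show ¬ (22 : ℕ) = 15 by decide),
        if_neg (show ¬ (22 : ℕ) = 20 by decide), if_neg (show ¬ (22 : ℕ) = 21 by decide),
        if_neg (show ¬ (22 : ℕ) = 17 by decide), Pi.zero_apply] at a14 a19 a20 a22
      have hz : ∀ x : K, (a : K) * x + -x = 0 → x = 0 := fun x hx => by
        have : ((a : K) - 1) * x = 0 := by linear_combination hx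
        exact (mul_eq_zero.1 this).resolve_left ha1
      show π y ∈ Zg
      rw [e, show s = 0 from Subtype.ext (hz _ a14), hz _ a19, hz _ a20,
        show y' = 0 from Subtype.ext (hz _ a22), gP_zero]
      exact ⟨z, rfl⟩)
  refine ⟨B', fun b hb => hB'.le hb, fun b hb => hB'.inj b hb, fun x hx => ?_, fun t b hb => ?_⟩
  · obtain ⟨z, hz, b, hb, e⟩ := hB'.dec (L x) (hπQ hx)
    refine ⟨b, hb, ?_⟩
    have := congrArg π e
    rwa [hL, map_mul, MonoidHom.mem_ker.1 hz, one_mul, eq_comm] at this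
  · refine hinv (s (upM t)) ?_ (fun y hy => ?_) (hB0fix _ (Or.inr ⟨upM t, rfl⟩)) b hb
    · rw [map_mul, map_mul, hπX, hht, hL]
      have := wB t
      rw [Units.val_mul, div_self (mul_ne_zero ha0 ha0), one_mul] at this
      calc gB C t * h = (h * gB C t * h⁻¹) * h := by rw [this]
        _ = h * gB C t := by group
    · show π (s (upM t) * y * (s (upM t))⁻¹) ∈ Qg C
      rw [map_mul, map_mul, map_inv, hπX]
      exact conj_Qg C (gB_borel C t) hy

/-- The preimage of the unipotent subgroup has a complement to the kernel. -/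
theorem radical_split {Γ : Type*} [Group Γ] [Finite Γ] (π : Γ →* ↥(twistedD4 K q))
    (hsurj : Function.Surjective π) (hc : π.ker ≤ Subgroup.center Γ) :
    ∃ B : Subgroup Γ, (∀ b ∈ B, π b = 1 → b = 1) ∧
      (rootClosure chevD4 K (chevD4.nroots / 2 ≤ ·)).subgroupOf (twistedD4 K q) ≤ B.map π := by
  classical
  obtain ⟨R⟩ := exists_data C π hsurj hc
  have hupM : ∀ t u : K, (upM (t + u) : SL(2, K)) = upM t * upM u := fun t u => by
    refine Subtype.ext ?_
    simp only [Matrix.SpecialLinearGroup.coe_mul]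
    simp [upM, add_comm]
  obtain ⟨B', hB'Q, hB'inj, hB'surj, hB'X⟩ : ∃ B' : Subgroup Γ, (∀ b ∈ B', π b ∈ Qg C) ∧
      (∀ b ∈ B', π b = 1 → b = 1) ∧ Qg C ≤ B'.map π ∧
      ∀ t, ∀ b ∈ B', R.s (upM t) * b * (R.s (upM t))⁻¹ ∈ B' := by
    rcases eq_or_ne q 2 with hq2 | hq2
    · exact complement_two C π hsurj hq2 R
    · exact complement_ge C π hsurj hc hq2 R
  set s := R.s
  have hπX := R.hπX
  have hs0 : s (upM 0) = 1 := by
    rw [show (upM (0 : K) : SL(2, K)) = 1 from Subtype.ext (by simp [upM, Matrix.one_fin_two]),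
      map_one]
  refine ⟨{ carrier := {y | ∃ b ∈ B', ∃ t, y = b * s (upM t)}
            one_mem' := ⟨1, one_mem _, 0, by rw [hs0, mul_one]⟩
            mul_mem' := ?_, inv_mem' := ?_ }, ?_, ?_⟩
  · rintro _ _ ⟨b, hb, t, rfl⟩ ⟨b', hb', t', rfl⟩
    exact ⟨b * (s (upM t) * b' * (s (upM t))⁻¹), mul_mem hb (hB'X t b' hb'), t + t', by
      rw [hupM, map_mul]; group⟩
  · rintro _ ⟨b, hb, t, rfl⟩
    have hinv : (s (upM t))⁻¹ = s (upM (-t)) := inv_eq_of_mul_eq_one_right (by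
      rw [← map_mul, ← hupM, add_neg_cancel, hs0])
    refine ⟨s (upM (-t)) * b⁻¹ * (s (upM (-t)))⁻¹, hB'X _ _ (inv_mem hb), -t, ?_⟩
    rw [mul_inv_rev, hinv]; group
  · rintro _ ⟨b, hb, t, rfl⟩ e
    rw [map_mul, hπX] at e
    have ht : gB C t ∈ Qg C := by
      rw [eq_inv_of_mul_eq_one_right e]; exact inv_mem (hB'Q b hb)
    obtain rfl := gB_cap C ht
    rw [hs0, mul_one]
    rw [map_zero_eq_one C (gB_add C), mul_one] at e
    exact hB'inj b hb e
  · intro g hg
    obtain ⟨a, haf, ha, e, hef, he, heq⟩ := C.sys.split_fix o1 (A := (chevD4.nroots / 2 ≤ ·))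
      (fun r _ h => h)
      (fun i hi hiO j hj hjp _ _ c hc =>
        le_of_lt (lt_of_le_of_lt hiO.1 (DataD4.facts.commTerms_lt hi hj hiO.1 hjp hc).2.1))
      (fun r hr h => C.sig.ok.rho_pos r hr h) hg (C.sys.le_fix g.2)
    have haR : a ∈ RQ K := by
      rw [RQ_eq_radical C, DataD4.facts.radical_eq]
      exact ha
    obtain ⟨b, hb, eb⟩ := hB'surj (x := ⟨a, mem_G_of_fix C haR haf⟩) haR
    obtain ⟨t, ht⟩ := C.fix_p134 hef he
    refine ⟨b * s (upM t), ⟨b, hb, t, rfl⟩, Subtype.ext ?_⟩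
    rw [map_mul, hπX, eb]
    show a * eB C t = _
    rw [eB_eq, ← ht]
    exact heq.symm

end CfsgLib.Chev.TwD4.Mult
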