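/-
The multiplier of ³D₄(q) is trivial.
-/
import Mathlib
import Cfsg.Agent.Lib.Recognition.Triality.Split
import Cfsg.Agent.Lib.Schur.CoprimeLift

set_option autoImplicit false
set_option maxRecDepth 20000
set_option maxHeartbeats 1000000

namespace CfsgLib.Chev.TwD4.Mult

open Cfsg.Lie CfsgLib.Chev.TwD4.Torus CfsgLib.Schur.CoprimeLift CfsgLib.Chev
open scoped MatrixGroups

universe v

/-- The word of a power of the product of the two Weyl elements. -/
def cWord (i : ℕ) : List (Fin chevD4.rank) :=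
  (List.replicate i ((O o0).word ++ (O o1).word)).flatten

theorem cWord_spec (i : ℕ) : ((O o0).wO * (O o1).wO) ^ i = sW chevD4 (cWord i) := by
  induction i with
  | zero => rfl
  | succ i ih =>
    rw [pow_succ', ih, Orb.wO, Orb.wO, ← sW_append, ← sW_append, cWord, cWord,
      List.replicate_succ, List.flatten_cons]

theorem weyl_tables :
    (∀ i : Fin 6, ∃ r : Fin 24, ((cWord i.val).map Fin.val).foldr
        (fun i x => chevD4.reflectRoot i x) r.val ≠
      ((O o0).word.map Fin.val).foldr (fun i x => chevD4.reflectRoot i x) r.val) ∧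
    (∀ r : Fin 24, r.val ∈ [18, 13, 12] → ((cWord 2 ++ (O o0).word).map Fin.val).foldr
      (fun i x => chevD4.reflectRoot i x) r.val ∈ [18, 13, 12]) ∧
    (∀ r : Fin 24, r.val ∈ [11, 10, 5] → ((cWord 2 ++ (O o0).word).map Fin.val).foldr
      (fun i x => chevD4.reflectRoot i x) r.val ∈ [11, 10, 5]) ∧
    chevD4.cartan 1 23 = 1 ∧ coordB chevD4 [23] = true := by
  decide +kernel

theorem cWord_val (r : Fin chevD4.nroots) :
    ((((O o0).wO * (O o1).wO) ^ 2 * (O o0).wO) r).val =
      ((cWord 2 ++ (O o0).word).map Fin.val).foldr (fun i x => chevD4.reflectRoot i x) r.val := by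
  rw [cWord_spec, Orb.wO, ← sW_append, DataD4.facts.sW_val_foldr]

theorem isPEl_of_root {Γ : Type*} [Group Γ] {p : ℕ} {F : Type*} [Field F]
    (s : SL(2, F) →* Γ) (hs : ∀ b u, IsPEl p (s (Cfsg.Agent.S2426.root (b, u))))
    (x : SL(2, F)) (b : Bool) (t : F) :
    IsPEl p (s (x * Cfsg.Agent.S2426.root (b, t) * x⁻¹)) := by
  rw [map_mul, map_mul, map_inv]
  exact isPEl_conj (hs b t) _

/-- A set of conjugates of root elements of an embedded `SL₂` lifts without meeting the kernel. -/
theorem lift_inj {Γ G : Type*} [Group Γ] [Group G] [Finite Γ] [Finite G] {π : Γ →* G} {p : ℕ}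
    [Fact p.Prime] (hπ : Function.Surjective π) (hc : π.ker ≤ Subgroup.center Γ)
    (hcop : (Nat.card π.ker).Coprime p) {F : Type*} [Field F] [Finite F] [CharP F p]
    (φ : SL(2, F) →* G) (hφ : Function.Injective φ) (S : Set G)
    (hS : ∀ g ∈ S, ∃ (x : SL(2, F)) (t : F), g = φ (x * Cfsg.Agent.S2426.root (true, t) * x⁻¹)) :
    ∀ y ∈ Subgroup.closure {y : Γ | IsPEl p y ∧ π y ∈ S}, π y = 1 → y = 1 := by
  obtain ⟨s, hs, hsr⟩ := exists_sl2_lift hπ hc hcop φ
  have hle : Subgroup.closure {y : Γ | IsPEl p y ∧ π y ∈ S} ≤ s.range := by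
    refine (Subgroup.closure_le _).2 fun y hy => ?_
    obtain ⟨x, t, e⟩ := hS _ hy.2
    refine ⟨x * Cfsg.Agent.S2426.root (true, t) * x⁻¹, ?_⟩
    exact lift_unique hc hcop (isPEl_of_root s hsr x true t) hy.1
      ((DFunLike.congr_fun hs _).trans e.symm)
  intro y hy e
  obtain ⟨a, rfl⟩ := hle hy
  have ha : φ a = 1 := (DFunLike.congr_fun hs a).symm.trans e
  rw [hφ (ha.trans (map_one φ).symm), map_one]

variable {K : Type v} [Field K] [Fintype K] {q : ℕ} (C : Ctx K q)
include C

theorem gen_orbSets : Subgroup.closure (C.sys.orbSet o0 ∪ C.sys.orbSet o1) = ⊤ := by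
  refine top_le_iff.1 fun g _ => ?_
  have hle : twistedD4 K q ≤
      (Subgroup.closure (C.sys.orbSet o0 ∪ C.sys.orbSet o1)).map (twistedD4 K q).subtype := by
    conv_lhs => rw [C.gen_eq]
    rw [Subgroup.closure_le]
    rintro _ ⟨w, hw, rfl⟩
    refine ⟨⟨_, C.mem_gen hw⟩, Subgroup.subset_closure ?_, rfl⟩
    rcases hw with ⟨t, -, r, hr, rfl⟩ | ⟨t, rs, hrs, rfl⟩
    · simp only [List.mem_cons, List.not_mem_nil, or_false] at hr
      refine Or.inl ?_
      rcases hr with rfl | rfl
      · exact Or.inl (rootClosure_mono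
          (fun r hr h => (posO_iff_list DataD4.chk_arrays lists.1.1 r hr).2 h)
          (Facts.wU_mem_closure (L := [d4p2]) (ts := [t]) (by decide +kernel)))
      · exact Or.inr (rootClosure_mono
          (fun r hr h => (negO_iff_list DataD4.chk_arrays lists.1.2.1 r hr).2 h)
          (Facts.wU_mem_closure (L := [d4m2]) (ts := [t]) (by decide +kernel)))
    · simp only [List.mem_cons, List.not_mem_nil, or_false] at hrs
      refine Or.inr ?_
      rcases hrs with rfl | rfl
      · exact Or.inl (rootClosure_mono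
          (fun r hr h => (posO_iff_list DataD4.chk_arrays lists.2.1 r hr).2 h)
          (Facts.wU_mem_closure (L := [d4p1, d4p3, d4p4]) (ts := [t, t ^ q, t ^ (q ^ 2)])
            (by decide +kernel)))
      · exact Or.inr (rootClosure_mono
          (fun r hr h => (negO_iff_list DataD4.chk_arrays lists.2.2.1 r hr).2 h)
          (Facts.wU_mem_closure (L := [d4m1, d4m3, d4m4]) (ts := [t, t ^ q, t ^ (q ^ 2)])
            (by decide +kernel)))
  obtain ⟨g', hg', e⟩ := hle g.2
  exact (Subtype.ext e : g' = g) ▸ hg'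

theorem stem_injective {p n : ℕ} (hp : p.Prime) (hn : 0 < n) (hq : q = p ^ n) {Γ : Type*}
    [Group Γ] [Finite Γ] (π : Γ →* ↥(twistedD4 K q)) (hπ : Cfsg.IsStemExtension π) :
    Function.Injective π := by
  classical
  obtain ⟨hsurj, hc, hker⟩ := hπ
  haveI : Fact p.Prime := ⟨hp⟩
  haveI : CharP K p := charP_of_card_eq_prime_pow (f := n * 3) (by rw [C.card, hq, pow_mul])
  haveI : CharP (Fq C) p := RingHom.charP (Fq C).subtype Subtype.val_injective p
  have hperf : commutator Γ = ⊤ := by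
    refine top_le_iff.1 fun g _ => ?_
    have h1 : (commutator Γ).map π = commutator ↥(twistedD4 K q) := by
      rw [commutator_def, commutator_def, Subgroup.map_commutator,
        Subgroup.map_top_of_surjective π hsurj]
    obtain ⟨c, hc', e⟩ : π g ∈ (commutator Γ).map π := by
      rw [h1, C.perfect_twisted]; exact Subgroup.mem_top _
    have : c⁻¹ * g ∈ commutator Γ := hker (by rw [MonoidHom.mem_ker, map_mul, map_inv, e, inv_mul_cancel])
    simpa using mul_mem hc' this
  set UG := (rootClosure chevD4 K (chevD4.nroots / 2 ≤ ·)).subgroupOf (twistedD4 K q) with hUG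
  have hUcard : Nat.card UG = q ^ 12 := by
    rw [hUG, ← DataD4.facts.posUnipotent_eq, ← C.card_posU, ← Subgroup.inf_subgroupOf_right]
    exact Nat.card_congr (Subgroup.subgroupOfEquivOfLe inf_le_right).toEquiv
  have hidx : ¬ p ∣ UG.index := by
    intro hdvd
    have hm := UG.card_mul_index
    rw [hUcard, C.card_twisted] at hm
    have hm' : UG.index = (q ^ 2 - 1) * (q ^ 6 - 1) * (q ^ 8 + q ^ 4 + 1) :=
      Nat.eq_of_mul_eq_mul_left (pow_pos (by have := C.q_gt; omega) 12) (hm.trans (by ring))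
    have hqp : p ∣ q := hq ▸ dvd_pow_self p hn.ne'
    rw [hm'] at hdvd
    have hq1 : 1 ≤ q := by have := C.q_gt; omega
    rcases (Nat.Prime.dvd_mul hp).1 hdvd with h | h
    · rcases (Nat.Prime.dvd_mul hp).1 h with h | h
      · have h2 := Nat.dvd_sub (dvd_pow hqp (two_ne_zero)) h
        rw [Nat.sub_sub_self (Nat.one_le_pow _ _ hq1)] at h2
        exact hp.not_dvd_one h2
      · have h2 := Nat.dvd_sub (dvd_pow hqp (show (6 : ℕ) ≠ 0 by norm_num)) h
        rw [Nat.sub_sub_self (Nat.one_le_pow _ _ hq1)] at h2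
        exact hp.not_dvd_one h2
    · exact hp.not_dvd_one ((Nat.dvd_add_right
        (dvd_add (dvd_pow hqp (show (8 : ℕ) ≠ 0 by norm_num))
          (dvd_pow hqp (show (4 : ℕ) ≠ 0 by norm_num)))).1 h)
  obtain ⟨B, hB, hBU⟩ := radical_split C π hsurj hc
  have hcop : (Nat.card π.ker).Coprime p :=
    (hp.coprime_iff_not_dvd.2 (not_dvd_card_ker hsurj hc hperf hidx B hB hBU)).symm
  obtain ⟨φA, hA, hAd, hAinj⟩ := exists_homA C
  obtain ⟨φB, -, hB23, hBorb, -, hBinj⟩ := exists_homB C
  obtain ⟨wi, wp, wn, hcart, h23⟩ := weyl_tables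
  have hord : orderOf ((O o0).wO * (O o1).wO) = 6 := by
    rw [Orb.wO, Orb.wO, ← sW_append]
    exact (Table.orderOf_sW DataD4.chk_arrays DataD4.chk_chain DataD4.facts
      (orders o0 o1)).trans (by decide)
  have hposl : ∀ r : Fin chevD4.nroots, (O o1).posO DataD4.co r ↔ r.val ∈ [18, 13, 12] :=
    fun r => posO_iff_list DataD4.chk_arrays lists.2.1 r.val r.isLt
  have hnegl : ∀ r : Fin chevD4.nroots, (O o1).negO DataD4.co r ↔ r.val ∈ [11, 10, 5] :=
    fun r => negO_iff_list DataD4.chk_arrays lists.2.2.1 r.val r.isLt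
  refine (injective_iff_map_eq_one π).2 (C.sys.cover_trivial π hsurj hc hperf hcop
    (IsPGroup.of_card (n := n * 12) (by rw [hUcard, hq, pow_mul])) o0 o1 (by decide)
    (fin_cases_spec (Or.inl rfl) (Or.inr rfl)) ?_ ?_ (gen_orbSets C) 2 hord ?_ ?_ ?_)
  · refine fin_cases_spec ?_ ?_
    · exact lift_inj hsurj hc hcop φA hAinj _ hA
    · exact lift_inj hsurj hc hcop φB hBinj _ hBorb
  · intro g hg0 hg1 hd
    have hrA : Subgroup.closure (C.sys.orbSet o0) ≤ φA.range := (Subgroup.closure_le _).2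
      fun g hg => by obtain ⟨x, t, e⟩ := hA g hg; exact ⟨_, e.symm⟩
    have hrB : Subgroup.closure (C.sys.orbSet o1) ≤ φB.range := (Subgroup.closure_le _).2
      fun g hg => by obtain ⟨x, t, e⟩ := hBorb g hg; exact ⟨_, e.symm⟩
    obtain ⟨a, rfl⟩ := hrA hg0
    obtain ⟨x, hx⟩ := hrB hg1
    obtain ⟨b, hb⟩ := hAd a hd
    have hcomm := hB23 x 1
    rw [hx, hb] at hcomm
    have hconj := DataD4.facts.hT_conj_xU (C.vec 1 b) (show 23 < chevD4.nroots by decide) (1 : K)
    have hprod : (∏ i ∈ Finset.range chevD4.rank, C.vec 1 b i ^ chevD4.cartan i 23) = b := by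
      rw [show chevD4.rank = 4 from tables.2.1]
      simp [Finset.prod_range_succ, Ctx.vec, hcart]
    rw [← hcomm.eq, mul_inv_cancel_right, hprod, mul_one] at hconj
    have := DataD4.facts.coords_unique C.sig.hC h23 (ts := [(1 : K)]) (ts' := [(b : K)]) rfl rfl
      (by simpa [wU] using hconj)
    have hb1 : b = 1 := Units.ext (List.cons.inj this).1.symm
    refine Subtype.ext ?_
    rw [hb, hb1]
    exact (DataD4.facts.hT_congr fun i hi => by
      have hi4 : i < 4 := hi
      interval_cases i <;> simp [Ctx.vec]).trans DataD4.facts.hT_one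
  · intro i
    rw [← pow_mod_orderOf, hord]
    obtain ⟨r, hr⟩ := wi ⟨i % 6, Nat.mod_lt _ (by norm_num)⟩
    intro e
    rw [cWord_spec, Orb.wO] at e
    apply hr
    have := congrArg (fun w => (w ⟨r.val, r.isLt⟩).val) e
    simpa only [DataD4.facts.sW_val_foldr] using this
  · intro r hr
    refine (hposl _).2 ?_
    rw [cWord_val]
    exact wp ⟨r.val, r.isLt⟩ ((hposl r).1 hr)
  · intro r hr
    refine (hnegl _).2 ?_
    rw [cWord_val]
    exact wn ⟨r.val, r.isLt⟩ ((hnegl r).1 hr)

end CfsgLib.Chev.TwD4.Mult
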